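import Groth.Prelude.Def_W4c1hilbpnTgt
import Mathlib

/-! # Graded pieces of the tangent space of a monomial ideal -/

open MvPolynomial W4c1hilbpn

namespace Groth.Agent.H25Hilb

open scoped Classical

variable {σ : Type*} {k : Type*} [Field k] {I : Ideal (MvPolynomial σ k)}

theorem exps_add {β : σ →₀ ℕ} (hβ : β ∈ exps I) (δ : σ →₀ ℕ) : β + δ ∈ exps I := by
  have h := I.mul_mem_right (monomial δ (1 : k)) hβ
  rwa [monomial_mul, one_mul] at h

theorem exps_of_le {β δ : σ →₀ ℕ} (hβ : β ∈ exps I) (h : β ≤ δ) : δ ∈ exps I := by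
  obtain ⟨e, rfl⟩ := le_iff_exists_add.1 h
  exact exps_add hβ e

theorem mem_of_forall_support {p : MvPolynomial σ k} (h : ∀ β ∈ p.support, β ∈ exps I) : p ∈ I := by
  rw [p.as_sum]
  refine Submodule.sum_mem _ fun β hβ => ?_
  have h2 := I.mul_mem_left (C (coeff β p)) (h β hβ)
  rwa [C_mul_monomial, mul_one] at h2

/-- The `δ`-coefficient functional on `S ⧸ I`, set to zero when `x^δ ∈ I`. -/
noncomputable def cq (hI : IsMonomial I) (δ : σ →₀ ℕ) : (MvPolynomial σ k ⧸ I) →ₗ[k] k :=
  (Submodule.liftQ (I.restrictScalars k) (if δ ∈ exps I then 0 else lcoeff k δ) (fun p hp => by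
      rw [LinearMap.mem_ker]
      split_ifs with h
      · rfl
      · rw [lcoeff_apply]
        by_contra hne
        exact h (hI p hp δ (MvPolynomial.mem_support_iff.2 hne)))).comp
    (Submodule.Quotient.restrictScalarsEquiv k I).symm.toLinearMap

theorem cq_mk (hI : IsMonomial I) {δ : σ →₀ ℕ} (h : δ ∉ exps I) (p : MvPolynomial σ k) :
    cq hI δ (Ideal.Quotient.mk I p) = coeff δ p := by
  simp only [cq, if_neg h]; rfl

theorem cq_of_mem (hI : IsMonomial I) {δ : σ →₀ ℕ} (h : δ ∈ exps I) (x : MvPolynomial σ k ⧸ I) :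
    cq hI δ x = 0 := by
  obtain ⟨p, rfl⟩ := Ideal.Quotient.mk_surjective x
  simp only [cq, if_pos h]; rfl

theorem quot_ext (hI : IsMonomial I) {x y : MvPolynomial σ k ⧸ I}
    (h : ∀ δ, δ ∉ exps I → cq hI δ x = cq hI δ y) : x = y := by
  obtain ⟨p, rfl⟩ := Ideal.Quotient.mk_surjective x
  obtain ⟨q, rfl⟩ := Ideal.Quotient.mk_surjective y
  rw [Ideal.Quotient.mk_eq_mk_iff_sub_mem]
  refine mem_of_forall_support fun δ hδ => ?_
  by_contra hn
  have := h δ hn
  rw [cq_mk hI hn, cq_mk hI hn] at this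
  exact MvPolynomial.mem_support_iff.1 hδ (by simp [this])

theorem cq_X_mul (hI : IsMonomial I) (i : σ) {δ : σ →₀ ℕ} (h : δ + Finsupp.single i 1 ∉ exps I)
    (x : MvPolynomial σ k ⧸ I) :
    cq hI (δ + Finsupp.single i 1) ((X i : MvPolynomial σ k) • x) = cq hI δ x := by
  obtain ⟨p, rfl⟩ := Ideal.Quotient.mk_surjective x
  rw [show (X i : MvPolynomial σ k) • Ideal.Quotient.mk I p = Ideal.Quotient.mk I (X i * p) from rfl,
    cq_mk hI h, cq_mk hI (fun hh => h (exps_add hh _)), add_comm, coeff_X_mul]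

theorem cq_X_mul_of_eq_zero (hI : IsMonomial I) (i : σ) {δ : σ →₀ ℕ} (h : δ i = 0)
    (x : MvPolynomial σ k ⧸ I) : cq hI δ ((X i : MvPolynomial σ k) • x) = 0 := by
  classical
  obtain ⟨p, rfl⟩ := Ideal.Quotient.mk_surjective x
  by_cases hδ : δ ∈ exps I
  · exact cq_of_mem hI hδ _
  rw [show (X i : MvPolynomial σ k) • Ideal.Quotient.mk I p = Ideal.Quotient.mk I (X i * p) from rfl,
    cq_mk hI hδ, coeff_X_mul', if_neg (by simp [h])]

theorem cq_monomial (hI : IsMonomial I) (δ ε : σ →₀ ℕ) (hδ : δ ∉ exps I) :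
    cq hI δ (Ideal.Quotient.mk I (monomial ε (1 : k))) = if ε = δ then 1 else 0 := by
  rw [cq_mk hI hδ, coeff_monomial]

/-- The monomial `x^β` as an element of `I`. -/
noncomputable def mon {β : σ →₀ ℕ} (hβ : β ∈ exps I) : ↥I := ⟨monomial β 1, hβ⟩

theorem tgt_ext (hI : IsMonomial I) {φ ψ : Tgt I}
    (h : ∀ (β : σ →₀ ℕ) (hβ : β ∈ exps I), φ (mon hβ) = ψ (mon hβ)) : φ = ψ := by
  classical
  refine LinearMap.ext fun p => ?_
  have hp : p = ∑ β ∈ p.1.support.attach, coeff β.1 p.1 • mon (hI p.1 p.2 β.1 β.2) := by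
    refine Subtype.ext ?_
    rw [Submodule.coe_sum]
    conv_lhs => rw [p.1.as_sum]
    rw [← Finset.sum_attach p.1.support (fun β => monomial β (coeff β p.1))]
    refine Finset.sum_congr rfl fun β _ => ?_
    rw [Submodule.coe_smul_of_tower]
    simp [mon, smul_monomial]
  rw [hp, map_sum, map_sum]
  refine Finset.sum_congr rfl fun β _ => ?_
  rw [LinearMap.map_smul_of_tower, LinearMap.map_smul_of_tower, h]

theorem tgt_ext_cq (hI : IsMonomial I) {φ ψ : Tgt I}
    (h : ∀ (β : σ →₀ ℕ) (hβ : β ∈ exps I) (δ : σ →₀ ℕ), δ ∉ exps I →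
      cq hI δ (φ (mon hβ)) = cq hI δ (ψ (mon hβ))) : φ = ψ :=
  tgt_ext hI fun β hβ => quot_ext hI (h β hβ)

theorem cq_step (hI : IsMonomial I) (φ : Tgt I) {β : σ →₀ ℕ} (hβ : β ∈ exps I) (i : σ) {δ : σ →₀ ℕ}
    (h : δ + Finsupp.single i 1 ∉ exps I) :
    cq hI (δ + Finsupp.single i 1) (φ (mon (exps_add hβ (Finsupp.single i 1)))) = cq hI δ (φ (mon hβ)) := by
  have e : mon (exps_add hβ (Finsupp.single i 1)) = (X i : MvPolynomial σ k) • mon hβ :=
    Subtype.ext (by simp [mon, X, monomial_mul, add_comm])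
  rw [e, map_smul, cq_X_mul hI i h]

theorem cq_step_zero (hI : IsMonomial I) (φ : Tgt I) {β : σ →₀ ℕ} (hβ : β ∈ exps I) (i : σ) {δ : σ →₀ ℕ}
    (h : δ i = 0) : cq hI δ (φ (mon (exps_add hβ (Finsupp.single i 1)))) = 0 := by
  have e : mon (exps_add hβ (Finsupp.single i 1)) = (X i : MvPolynomial σ k) • mon hβ :=
    Subtype.ext (by simp [mon, X, monomial_mul, add_comm])
  rw [e, map_smul, cq_X_mul_of_eq_zero hI i h]

/-- Exponents, as an integer vector. -/
def zv (β : σ →₀ ℕ) : σ → ℤ := fun i => (β i : ℤ)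

theorem zv_inj {β δ : σ →₀ ℕ} (h : zv β = zv δ) : β = δ :=
  Finsupp.ext fun i => by have := congrFun h i; simp only [zv] at this; omega

theorem zv_add_single [DecidableEq σ] (β : σ →₀ ℕ) (i : σ) :
    zv (β + Finsupp.single i 1) = zv β + Pi.single i 1 := by
  funext j
  simp only [zv, Finsupp.add_apply, Pi.add_apply, Nat.cast_add]
  rcases eq_or_ne j i with rfl | h
  · simp
  · simp [Pi.single_eq_of_ne h, Finsupp.single_eq_of_ne h]

variable [Finite σ]

theorem shift_eq {β δ : σ →₀ ℕ} {α : σ → ℤ} (h : zv δ = zv β + α) : shift β α = δ := by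
  refine Finsupp.ext fun i => ?_
  have := congrFun h i
  simp only [zv, Pi.add_apply] at this
  simp only [shift, Finsupp.coe_equivFunOnFinite_symm]
  omega

theorem mem_tPiece_iff (hI : IsMonomial I) {φ : Tgt I} {α : σ → ℤ} :
    φ ∈ tPiece I α ↔ ∀ (β : σ →₀ ℕ) (hβ : β ∈ exps I) (δ : σ →₀ ℕ),
      cq hI δ (φ (mon hβ)) ≠ 0 → zv δ = zv β + α := by
  classical
  constructor
  · intro h β hβ δ hne
    have hδ : δ ∉ exps I := fun hh => hne (cq_of_mem hI hh _)
    by_cases hn : ∀ i, 0 ≤ (β i : ℤ) + α i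
    · obtain ⟨c, hc⟩ := Submodule.mem_span_singleton.1 ((h β hβ).1 hn)
      rw [show mon hβ = (⟨monomial β 1, hβ⟩ : I) from rfl, ← hc, map_smul, cq_monomial hI δ _ hδ] at hne
      have : shift β α = δ := by by_contra h'; simp [h'] at hne
      subst this
      funext i
      have := hn i
      simp [zv, shift]; omega
    · push_neg at hn
      exact absurd (by rw [show mon hβ = (⟨monomial β 1, hβ⟩ : I) from rfl, (h β hβ).2 hn, map_zero]) hne
  · intro h β hβ
    refine ⟨fun hn => ?_, fun hn => ?_⟩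
    · refine Submodule.mem_span_singleton.2 ⟨cq hI (shift β α) (φ (mon hβ)), quot_ext hI fun δ hδ => ?_⟩
      rw [map_smul, cq_monomial hI δ _ hδ]
      by_cases he : shift β α = δ
      · subst he; simp [mon]
      · rw [if_neg he, smul_zero]
        by_contra hne
        exact he (shift_eq (h β hβ δ (Ne.symm hne)))
    · refine quot_ext hI fun δ _ => ?_
      rw [map_zero]
      by_contra hne
      obtain ⟨i, hi⟩ := hn
      have := congrFun (h β hβ δ hne) i
      simp only [zv, Pi.add_apply] at this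
      omega

/-- `γ` is a point of `(Ĩ + α) ∖ Ĩ` with nonnegative coordinates. -/
def Good (I : Ideal (MvPolynomial σ k)) (α γ : σ → ℤ) : Prop :=
  ∃ β δ : σ →₀ ℕ, β ∈ exps I ∧ δ ∉ exps I ∧ γ = zv δ ∧ zv δ = zv β + α

variable [DecidableEq σ]

/-- Functions on the nonnegative part of the region which are invariant under unit steps
and vanish next to a negative point. -/
def cfun (I : Ideal (MvPolynomial σ k)) (α : σ → ℤ) : Submodule k ((σ → ℤ) → k) where
  carrier := {c | (∀ γ, ¬ Good I α γ → c γ = 0) ∧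
    ∀ β ∈ exps I, ∀ i, Good I α (zv β + α + Pi.single i 1) → c (zv β + α + Pi.single i 1) = c (zv β + α)}
  zero_mem' := ⟨fun _ _ => rfl, fun _ _ _ _ => rfl⟩
  add_mem' {a b} ha hb := ⟨fun γ h => by simp [ha.1 γ h, hb.1 γ h],
    fun β hβ i h => by simp [ha.2 β hβ i h, hb.2 β hβ i h]⟩
  smul_mem' r a ha := ⟨fun γ h => by simp [ha.1 γ h], fun β hβ i h => by simp [ha.2 β hβ i h]⟩

/-- The function on the region attached to a tangent vector. -/
noncomputable def toFun (hI : IsMonomial I) (α : σ → ℤ) : Tgt I →ₗ[k] ((σ → ℤ) → k) where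
  toFun φ γ := if h : Good I α γ then cq hI h.choose_spec.choose (φ (mon h.choose_spec.choose_spec.1)) else 0
  map_add' φ ψ := by funext γ; by_cases h : Good I α γ <;> simp [h]
  map_smul' r φ := by funext γ; by_cases h : Good I α γ <;> simp [h]

theorem toFun_apply (hI : IsMonomial I) {α : σ → ℤ} (φ : Tgt I) {β δ : σ →₀ ℕ} (hβ : β ∈ exps I)
    (hδ : δ ∉ exps I) (h : zv δ = zv β + α) : toFun hI α φ (zv δ) = cq hI δ (φ (mon hβ)) := by
  have hg : Good I α (zv δ) := ⟨β, δ, hβ, hδ, rfl, h⟩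
  obtain ⟨h1, h2, h3, h4⟩ := hg.choose_spec.choose_spec
  have e1 : hg.choose_spec.choose = δ := (zv_inj h3).symm
  have e2 : hg.choose = β := zv_inj ((add_right_cancel (h.symm.trans ((congrArg zv e1).symm.trans h4))).symm)
  simp only [toFun, LinearMap.coe_mk, AddHom.coe_mk, dif_pos hg]
  congr 1
  · rw [e1]
  · congr 1; exact Subtype.ext (congrArg (fun x => monomial x (1 : k)) e2)

theorem toFun_mem (hI : IsMonomial I) (α : σ → ℤ) (φ : Tgt I) : toFun hI α φ ∈ cfun I α := by
  refine ⟨fun γ h => by simp [toFun, h], fun β hβ i hg => ?_⟩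
  obtain ⟨β', δ', hβ', hδ', h1, h2⟩ := hg
  rw [h1]
  obtain rfl : β' = β + Finsupp.single i 1 := zv_inj (by
    rw [zv_add_single]; refine add_right_cancel (b := α) ?_; rw [← h2, ← h1]; abel)
  rw [toFun_apply hI φ hβ' hδ' h2]
  by_cases hz : δ' i = 0
  · rw [cq_step_zero hI φ hβ i hz]
    simp only [toFun, LinearMap.coe_mk, AddHom.coe_mk]
    rw [dif_neg]
    rintro ⟨β'', δ'', -, -, h3, h4⟩
    have e1 := congrFun h1 i
    have e3 := congrFun h3 i
    simp [zv, hz] at e1 e3
    omega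
  · obtain ⟨δ, rfl⟩ : ∃ δ, δ' = δ + Finsupp.single i 1 :=
      ⟨δ' - Finsupp.single i 1, (tsub_add_cancel_of_le (Finsupp.single_le_iff.2 (Nat.one_le_iff_ne_zero.2 hz))).symm⟩
    have h3 : zv δ = zv β + α := by
      rw [zv_add_single, zv_add_single] at h2
      exact add_right_cancel (h2.trans (by abel : zv β + Pi.single i 1 + α = zv β + α + Pi.single i 1))
    rw [cq_step hI φ hβ i hδ', ← h3, toFun_apply hI φ hβ (fun h => hδ' (exps_add h _)) h3]

/-- The value on `x^β` of the tangent vector attached to a function on the region. -/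
noncomputable def ofVal (I : Ideal (MvPolynomial σ k)) (α : σ → ℤ) (c : (σ → ℤ) → k) (β : σ →₀ ℕ) :
    MvPolynomial σ k ⧸ I :=
  if Good I α (zv β + α) then c (zv β + α) • Ideal.Quotient.mk I (monomial (shift β α) 1) else 0

theorem ofVal_step (hI : IsMonomial I) {α : σ → ℤ} {c : (σ → ℤ) → k} (hc : c ∈ cfun I α)
    {β : σ →₀ ℕ} (hβ : β ∈ exps I) (i : σ) :
    ofVal I α c (β + Finsupp.single i 1) = (X i : MvPolynomial σ k) • ofVal I α c β := by
  classical
  have e : zv (β + Finsupp.single i 1) + α = zv β + α + Pi.single i 1 := by rw [zv_add_single]; abel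
  by_cases h' : Good I α (zv β + α + Pi.single i 1)
  · have hc' := hc.2 β hβ i h'
    by_cases h : Good I α (zv β + α)
    · rw [ofVal, ofVal, e, if_pos h', if_pos h, hc', smul_comm]
      congr 1
      show _ = Ideal.Quotient.mk I (X i * monomial (shift β α) 1)
      congr 1
      obtain ⟨β₀, δ, -, -, h1, -⟩ := h
      have hs : shift (β + Finsupp.single i 1) α = δ + Finsupp.single i 1 :=
        shift_eq (by rw [zv_add_single δ, e, h1])
      rw [hs, shift_eq h1.symm, X, monomial_mul, one_mul, add_comm]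
    · rw [ofVal, ofVal, e, if_pos h', if_neg h, hc', hc.1 _ h, zero_smul, smul_zero]
  · rw [ofVal, ofVal, e, if_neg h']
    by_cases h : Good I α (zv β + α)
    · rw [if_pos h, smul_comm]
      obtain ⟨β₀, δ, -, hδ, h1, h2⟩ := h
      have hmem : Ideal.Quotient.mk I (X i * monomial (shift β α) (1 : k)) = 0 := by
        rw [shift_eq h1.symm, X, monomial_mul, one_mul, Ideal.Quotient.eq_zero_iff_mem]
        by_contra hn
        exact h' ⟨β + Finsupp.single i 1, δ + Finsupp.single i 1, exps_add hβ _,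
          fun hh => hn (by rw [add_comm]; exact hh), by rw [zv_add_single, h1],
          by rw [zv_add_single δ, e, h1]⟩
      rw [show (X i : MvPolynomial σ k) • Ideal.Quotient.mk I (monomial (shift β α) (1 : k)) =
        Ideal.Quotient.mk I (X i * monomial (shift β α) (1 : k)) from rfl, hmem, smul_zero]
    · rw [if_neg h, smul_zero]

/-- The tangent vector attached to a function on the region. -/
theorem exists_of_cfun (hI : IsMonomial I) {α : σ → ℤ} {c : (σ → ℤ) → k} (hc : c ∈ cfun I α) :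
    ∃ φ : Tgt I, ∀ (β : σ →₀ ℕ) (hβ : β ∈ exps I), φ (mon hβ) = ofVal I α c β := by
  classical
  let F : MvPolynomial σ k →ₗ[k] MvPolynomial σ k ⧸ I := (basisMonomials σ k).constr k (ofVal I α c)
  have hF : ∀ β, F (monomial β 1) = ofVal I α c β := fun β => by
    have := (basisMonomials σ k).constr_basis k (ofVal I α c) β
    rwa [coe_basisMonomials] at this
  have hX : ∀ (i : σ) (p : MvPolynomial σ k), p ∈ I → F (X i * p) = (X i : MvPolynomial σ k) • F p := by
    intro i p hp
    rw [p.as_sum, Finset.mul_sum, map_sum, map_sum, Finset.smul_sum]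
    refine Finset.sum_congr rfl fun β hβ => ?_
    rw [show monomial β (coeff β p) = coeff β p • monomial β (1 : k) by rw [smul_monomial, smul_eq_mul, mul_one],
      mul_smul_comm, map_smul, map_smul, show (X i : MvPolynomial σ k) * monomial β (1 : k) =
        monomial (β + Finsupp.single i 1) 1 by rw [X, monomial_mul, one_mul, add_comm],
      hF, hF, ofVal_step hI hc (hI p hp β hβ), smul_comm]
  refine ⟨{ toFun := fun p => F p.1, map_add' := fun p q => by simp, map_smul' := fun q p => ?_ },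
    fun β hβ => hF β⟩
  show F (q * p.1) = q • F p.1
  induction q using MvPolynomial.induction_on generalizing p with
  | C a => rw [← MvPolynomial.smul_eq_C_mul, map_smul, ← algebraMap_eq, algebraMap_smul]
  | add a b ha hb => rw [add_mul, map_add, ha, hb, add_smul]
  | mul_X a i ha =>
    rw [mul_assoc]
    refine (ha ⟨X i * p.1, I.mul_mem_left _ p.2⟩).trans ?_
    show a • F (X i * p.1) = _
    rw [hX i p.1 p.2, smul_smul]

theorem ofVal_cq (hI : IsMonomial I) (α : σ → ℤ) (c : (σ → ℤ) → k) (β δ : σ →₀ ℕ) (hδ : δ ∉ exps I) :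
    cq hI δ (ofVal I α c β) = if Good I α (zv β + α) ∧ zv δ = zv β + α then c (zv β + α) else 0 := by
  classical
  unfold ofVal
  by_cases h : Good I α (zv β + α)
  · rw [if_pos h, map_smul, cq_monomial hI δ _ hδ]
    have hg := h
    obtain ⟨β₀, δ', -, -, h1, -⟩ := h
    rw [shift_eq h1.symm]
    by_cases he : δ' = δ
    · subst he; rw [if_pos rfl, if_pos ⟨hg, h1.symm⟩, smul_eq_mul, mul_one]
    · rw [if_neg he, if_neg (fun hh => he (zv_inj (h1.symm.trans hh.2.symm))), smul_zero]
  · rw [if_neg h, if_neg (fun hh => h hh.1), map_zero]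

/-- `T(I)_α` as functions on the region. -/
noncomputable def pieceEquiv (hI : IsMonomial I) (α : σ → ℤ) : ↥(tPiece I α) ≃ₗ[k] ↥(cfun I α) := by
  refine LinearEquiv.ofBijective (((toFun hI α).comp (tPiece I α).subtype).codRestrict _
    fun φ => toFun_mem hI α φ) ⟨?_, ?_⟩
  · intro φ ψ h
    refine Subtype.ext (tgt_ext_cq hI fun β hβ δ hδ => ?_)
    by_cases hh : zv δ = zv β + α
    · have e := congrFun (congrArg Subtype.val h) (zv δ)
      exact ((toFun_apply hI φ.1 hβ hδ hh).symm.trans e).trans (toFun_apply hI ψ.1 hβ hδ hh)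
    · rw [not_imp_comm.1 ((mem_tPiece_iff hI).1 φ.2 β hβ δ) hh, not_imp_comm.1 ((mem_tPiece_iff hI).1 ψ.2 β hβ δ) hh]
  · rintro ⟨c, hc⟩
    classical
    obtain ⟨φ, hφ⟩ := exists_of_cfun hI hc
    have hmem : φ ∈ tPiece I α := (mem_tPiece_iff hI).2 fun β hβ δ hne => by
      have hδ : δ ∉ exps I := fun hh => hne (cq_of_mem hI hh _)
      rw [hφ, ofVal_cq hI α c β δ hδ] at hne
      exact (not_not.1 fun hh => hne (if_neg hh)).2
    refine ⟨⟨φ, hmem⟩, Subtype.ext (funext fun γ => ?_)⟩
    show toFun hI α φ γ = c γ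
    by_cases hg : Good I α γ
    · obtain ⟨β, δ, hβ, hδ, rfl, h⟩ := hg
      rw [toFun_apply hI φ hβ hδ h, hφ, ofVal_cq hI α c β δ hδ,
        if_pos ⟨⟨β, δ, hβ, hδ, h.symm, h⟩, h⟩, h]
    · rw [hc.1 γ hg]; simp [toFun, hg]

theorem good_zv {α : σ → ℤ} {β δ : σ →₀ ℕ} (hβ : β ∈ exps I) (hδ : δ ∉ exps I) (h : zv δ = zv β + α) :
    Good I α (zv δ) := ⟨β, δ, hβ, hδ, rfl, h⟩

theorem finite_std (hI : IsMonomial I) [Module.Finite k (MvPolynomial σ k ⧸ I)] :
    Finite {δ : σ →₀ ℕ // δ ∉ exps I} := by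
  classical
  refine LinearIndependent.finite (R := k) (M := MvPolynomial σ k ⧸ I)
    (f := fun δ : {δ : σ →₀ ℕ // δ ∉ exps I} => Ideal.Quotient.mk I (monomial δ.1 (1 : k))) ?_
  rw [linearIndependent_iff']
  intro s g hg δ hδ
  have := congrArg (cq hI δ.1) hg
  rw [map_sum, map_zero, Finset.sum_eq_single δ] at this
  · simpa [cq_monomial hI _ _ δ.2] using this
  · intro b _ hb
    simp [cq_monomial hI _ _ δ.2, Subtype.coe_ne_coe.2 hb]
  · exact fun h => absurd hδ h

/-- An arbitrary monomial eventually lies in an ideal of finite colength. -/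
theorem exists_add_single_mem (hI : IsMonomial I) [Module.Finite k (MvPolynomial σ k ⧸ I)] (β : σ →₀ ℕ) (j : σ) :
    ∃ t, β + Finsupp.single j t ∈ exps I := by
  by_contra h
  push_neg at h
  have := finite_std hI
  refine not_finite_iff_infinite.2 ?_ (Finite.of_injective (fun t : ℕ =>
    (⟨β + Finsupp.single j t, h t⟩ : {δ : σ →₀ ℕ // δ ∉ exps I})) fun a b hab => ?_)
  · infer_instance
  · simpa using congrArg (fun x : {δ : σ →₀ ℕ // δ ∉ exps I} => x.1 j) hab

omit [DecidableEq σ] in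
theorem finite_tgt [Module.Finite k (MvPolynomial σ k ⧸ I)] : Module.Finite k (Tgt I) := by
  obtain ⟨s, hs⟩ := (IsNoetherian.noetherian (⊤ : Submodule (MvPolynomial σ k) ↥I))
  let L : Tgt I →ₗ[k] (↥(s : Set ↥I) → MvPolynomial σ k ⧸ I) :=
    { toFun := fun φ p => φ p.1, map_add' := fun _ _ => rfl, map_smul' := fun _ _ => rfl }
  exact Module.Finite.of_injective L fun φ ψ h => LinearMap.ext_on hs fun x hx => congrFun h ⟨x, hx⟩

/-- The component of multidegree `α` of a tangent vector. -/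
noncomputable def comp (hI : IsMonomial I) (α : σ → ℤ) (φ : Tgt I) : Tgt I :=
  ((pieceEquiv hI α).symm ⟨toFun hI α φ, toFun_mem hI α φ⟩).1

theorem comp_mem (hI : IsMonomial I) (α : σ → ℤ) (φ : Tgt I) : comp hI α φ ∈ tPiece I α :=
  ((pieceEquiv hI α).symm ⟨toFun hI α φ, toFun_mem hI α φ⟩).2

theorem cq_comp (hI : IsMonomial I) (α : σ → ℤ) (φ : Tgt I) {β δ : σ →₀ ℕ} (hβ : β ∈ exps I) (hδ : δ ∉ exps I)
    (h : zv δ = zv β + α) : cq hI δ (comp hI α φ (mon hβ)) = cq hI δ (φ (mon hβ)) := by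
  rw [← toFun_apply hI _ hβ hδ h, ← toFun_apply hI φ hβ hδ h]
  exact congrFun (congrArg Subtype.val ((pieceEquiv hI α).apply_symm_apply ⟨toFun hI α φ, toFun_mem hI α φ⟩)) _

/-- Every tangent vector is the sum of finitely many graded components. -/
theorem exists_sum_comp (hI : IsMonomial I) [Module.Finite k (MvPolynomial σ k ⧸ I)] (φ : Tgt I) :
    ∃ A : Finset (σ → ℤ), φ = ∑ α ∈ A, comp hI α φ := by
  classical
  let A : Set (σ → ℤ) := {α | ∃ β δ, ∃ hβ : β ∈ exps I, δ ∉ exps I ∧ zv δ = zv β + α ∧ cq hI δ (φ (mon hβ)) ≠ 0}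
  have := finite_tgt (I := I)
  have hli : LinearIndependent k (fun α : A => comp hI α.1 φ) := by
    rw [linearIndependent_iff']
    intro s g hg α hα
    obtain ⟨β, δ, hβ, hδ, h, hne⟩ := α.2
    have h0 := congrArg (fun ψ : Tgt I => cq hI δ (ψ (mon hβ))) hg
    simp only [LinearMap.coe_sum, Finset.sum_apply, LinearMap.smul_apply, map_sum, map_smul, LinearMap.zero_apply,
      map_zero] at h0
    rw [Finset.sum_eq_single α, cq_comp hI _ _ hβ hδ h] at h0
    · exact (mul_eq_zero.1 h0).resolve_right hne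
    · intro b _ hb
      have hz : cq hI δ (comp hI b.1 φ (mon hβ)) = 0 := by
        by_contra hne'
        exact hb (Subtype.ext (add_left_cancel (((mem_tPiece_iff hI).1 (comp_mem hI _ φ) β hβ δ hne').symm.trans h)))
      rw [hz, smul_zero]
    · exact fun h' => absurd hα h'
  have : Finite A := hli.finite
  refine ⟨(Set.toFinite A).toFinset, tgt_ext_cq hI fun β hβ δ hδ => ?_⟩
  simp only [LinearMap.coe_sum, Finset.sum_apply, map_sum]
  rw [Finset.sum_eq_single (zv δ - zv β), cq_comp hI _ _ hβ hδ (by abel)]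
  · intro α _ hα
    by_contra hne'
    exact hα (by rw [(mem_tPiece_iff hI).1 (comp_mem hI _ φ) β hβ δ hne']; abel)
  · intro hn
    rw [cq_comp hI _ _ hβ hδ (by abel)]
    by_contra hne'
    exact hn ((Set.toFinite A).mem_toFinset.2 ⟨β, δ, hβ, hδ, by abel, hne'⟩)

theorem tPiece_le_bot_of (hI : IsMonomial I) {α : σ → ℤ}
    (h : ∀ φ ∈ tPiece I α, ∀ (β δ : σ →₀ ℕ) (hβ : β ∈ exps I), δ ∉ exps I → zv δ = zv β + α →
      cq hI δ (φ (mon hβ)) = 0) : tPiece I α = ⊥ := by
  refine (Submodule.eq_bot_iff _).2 fun φ hφ => tgt_ext_cq hI fun β hβ δ hδ => ?_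
  rw [LinearMap.zero_apply, map_zero]
  by_cases hh : zv δ = zv β + α
  · exact h φ hφ β δ hβ hδ hh
  · exact not_imp_comm.1 ((mem_tPiece_iff hI).1 hφ β hβ δ) hh

/-- A coefficient vanishes if the negative coordinate `i` can be decreased indefinitely after moving up in `j`. -/
theorem cq_eq_zero_of_descend (hI : IsMonomial I) {α : σ → ℤ} (φ : Tgt I) {i j : σ} (hij : j ≠ i) (hα : α i < 0)
    (hmem : ∀ (β : σ →₀ ℕ), β ∈ exps I → ∃ t, β - Finsupp.single i 1 + Finsupp.single j t ∈ exps I)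
    (hesc : ∀ (β δ : σ →₀ ℕ), β ∈ exps I → δ ∉ exps I → zv δ = zv β + α →
      δ + Finsupp.single j 1 ∈ exps I → β - Finsupp.single i 1 ∈ exps I)
    {β δ : σ →₀ ℕ} (hβ : β ∈ exps I) (hδ : δ ∉ exps I) (h : zv δ = zv β + α) :
    cq hI δ (φ (mon hβ)) = 0 := by
  have key : ∀ (n : ℕ) (β δ : σ →₀ ℕ) (hβ : β ∈ exps I), δ i ≤ n → δ ∉ exps I → zv δ = zv β + α →
      cq hI δ (φ (mon hβ)) = 0 := by
    intro n
    induction n using Nat.strong_induction_on with
    | h n ih =>
      intro β δ hβ hn hδ h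
      have hi : 0 < β i := by
        have := congrFun h i
        simp only [zv, Pi.add_apply] at this
        omega
      have down : ∀ (β δ : σ →₀ ℕ) (hβ : β ∈ exps I), δ i ≤ n → δ ∉ exps I → zv δ = zv β + α →
          β - Finsupp.single i 1 ∈ exps I → cq hI δ (φ (mon hβ)) = 0 := by
        intro β δ hβ hn hδ h hd
        have hi : 0 < β i := by
          have := congrFun h i
          simp only [zv, Pi.add_apply] at this
          omega
        obtain ⟨b, rfl⟩ : ∃ b, β = b + Finsupp.single i 1 :=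
          ⟨β - Finsupp.single i 1, (tsub_add_cancel_of_le (Finsupp.single_le_iff.2 hi)).symm⟩
        rw [add_tsub_cancel_right] at hd
        by_cases hz : δ i = 0
        · exact cq_step_zero hI φ hd i hz
        obtain ⟨d, rfl⟩ : ∃ d, δ = d + Finsupp.single i 1 :=
          ⟨δ - Finsupp.single i 1, (tsub_add_cancel_of_le (Finsupp.single_le_iff.2 (Nat.one_le_iff_ne_zero.2 hz))).symm⟩
        rw [cq_step hI φ hd i hδ]
        refine ih (d i) ?_ b d hd le_rfl (fun hh => hδ (exps_add hh _)) ?_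
        · simp at hn; omega
        · rw [zv_add_single, zv_add_single] at h
          exact add_right_cancel (h.trans (by abel : zv b + Pi.single i 1 + α = zv b + α + Pi.single i 1))
      obtain ⟨t, ht⟩ := hmem β hβ
      induction t generalizing β δ with
      | zero => exact down β δ hβ hn hδ h (by simpa using ht)
      | succ t iht =>
        by_cases hd : β - Finsupp.single i 1 ∈ exps I
        · exact down β δ hβ hn hδ h hd
        have hδ' : δ + Finsupp.single j 1 ∉ exps I := fun hh => hd (hesc β δ hβ hδ h hh)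
        rw [← cq_step hI φ hβ j hδ']
        refine iht (β + Finsupp.single j 1) (δ + Finsupp.single j 1) (exps_add hβ _) ?_ hδ' ?_ ?_ ?_
        · simp [Finsupp.single_eq_of_ne hij.symm]; omega
        · rw [zv_add_single, zv_add_single, h]; abel
        · simp [Finsupp.single_eq_of_ne hij.symm]; omega
        · have : β - Finsupp.single i 1 + Finsupp.single j (t + 1) =
              β + Finsupp.single j 1 - Finsupp.single i 1 + Finsupp.single j t := by
            refine Finsupp.ext fun l => ?_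
            simp only [Finsupp.add_apply, Finsupp.tsub_apply, Finsupp.single_apply]
            rcases eq_or_ne j l with rfl | hl
            · simp only [if_true, if_neg hij.symm]; omega
            · simp only [if_neg hl]; omega
          exact this ▸ ht
  exact key _ β δ hβ le_rfl hδ h

end Groth.Agent.H25Hilb
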