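import Groth.Agent.H25Hilb.Basic

/-! # Colength of a monomial ideal = number of standard monomials -/

open MvPolynomial W4c1hilbpn
open scoped Classical

namespace Groth.Agent.H25Hilb

variable {σ : Type*} {k : Type*} [Field k] {I : Ideal (MvPolynomial σ k)}

theorem finrank_quot_eq_card (hI : IsMonomial I) [Finite {δ : σ →₀ ℕ // δ ∉ exps I}] :
    Module.finrank k (MvPolynomial σ k ⧸ I) = Nat.card {δ : σ →₀ ℕ // δ ∉ exps I} := by
  haveI := Fintype.ofFinite {δ : σ →₀ ℕ // δ ∉ exps I}
  let L : (MvPolynomial σ k ⧸ I) →ₗ[k] ({δ : σ →₀ ℕ // δ ∉ exps I} → k) := LinearMap.pi fun δ => cq hI δ.1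
  have hL : ∀ x δ, L x δ = cq hI δ.1 x := fun x δ => by simp only [L, LinearMap.pi_apply]
  have hinj : Function.Injective L := fun x y h => quot_ext hI fun δ hδ => by
    have := congrFun h ⟨δ, hδ⟩
    simpa only [hL] using this
  have hsurj : Function.Surjective L := fun g =>
    ⟨∑ δ, g δ • Ideal.Quotient.mk I (monomial δ.1 (1 : k)), funext fun δ => by
      rw [hL, map_sum, Finset.sum_eq_single δ]
      · simp [cq_monomial hI _ _ δ.2]
      · intro b _ hb
        simp [cq_monomial hI _ _ δ.2, Subtype.coe_ne_coe.2 hb]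
      · exact fun h => absurd (Finset.mem_univ δ) h⟩
  rw [(LinearEquiv.ofBijective L ⟨hinj, hsurj⟩).finrank_eq, Module.finrank_fintype_fun_eq_card, Nat.card_eq_fintype_card]

theorem monomial_ideal_ext {J : Ideal (MvPolynomial σ k)} (hI : IsMonomial I) (hJ : IsMonomial J)
    (h : ∀ β, β ∈ exps I ↔ β ∈ exps J) : I = J :=
  le_antisymm (fun p hp => mem_of_forall_support fun β hβ => (h β).1 (hI p hp β hβ))
    (fun p hp => mem_of_forall_support fun β hβ => (h β).2 (hJ p hp β hβ))

end Groth.Agent.H25Hilb
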