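import Mathlib

/-!
# Euler characteristic identity on planar staircases

For an antitone `f : ℕ × ℕ → ℕ` vanishing outside a box, a shift `α` and `m : ℕ`, the degree zero
cohomology `kerV` of the complex of cells `cellP` differs from the space `kerM` on the complementary
squares by the Euler characteristic of the cells.
-/

open scoped Classical

namespace Groth.Agent.H25Hilb.Plane

abbrev P2 := ℕ × ℕ

def e1 : P2 := (1, 0)
def e2 : P2 := (0, 1)
def e12 : P2 := (1, 1)

/-- A staircase: an antitone function with support in a box. -/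
structure Stair where
  f : P2 → ℕ
  N : ℕ
  anti : ∀ {u v : P2}, u ≤ v → f v ≤ f u
  supp : ∀ u, f u ≠ 0 → u.1 < N ∧ u.2 < N

variable (S : Stair) (α : P2) (m : ℕ)

/-- cells of shape `e` with lower corner `u` which are present -/
def cellP (e : P2) (u : P2) : Prop := m < S.f u ∧ S.f u ≤ S.f (u + e + α) + m

/-- cells of shape `e` with lower corner `u` which are absent -/
def cellA (e : P2) (u : P2) : Prop := S.f (u + e + α) + m < S.f u

def D (u : P2) : Prop := m < S.f u

variable {S α m}

theorem box {u : P2} (h : D S m u) : u ∈ Finset.range S.N ×ˢ Finset.range S.N := by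
  have := S.supp u (by unfold D at h; omega)
  simp [this]

theorem cellP_D {e u : P2} (h : cellP S α m e u) : D S m u := h.1

theorem cellA_D {e u : P2} (h : cellA S α m e u) : D S m u := by unfold cellA at h; unfold D; omega

theorem cell_or {e u : P2} (h : D S m u) : cellP S α m e u ∨ cellA S α m e u := by
  by_cases h' : S.f u ≤ S.f (u + e + α) + m
  · exact Or.inl ⟨h, h'⟩
  · exact Or.inr (not_le.1 h')

theorem cell_not {e u : P2} (h : cellP S α m e u) : ¬ cellA S α m e u := by
  have := h.2; unfold cellA; omega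

theorem cellP_mono {e e' u : P2} (h : cellP S α m e' u) (he : e ≤ e') : cellP S α m e u :=
  ⟨h.1, h.2.trans (Nat.add_le_add_right (S.anti (add_le_add (add_le_add le_rfl he) le_rfl)) m)⟩

theorem cellP_up {e e' d u : P2} (h : cellP S α m e' u) (he : d + e ≤ e') (hD : D S m (u + d)) :
    cellP S α m e (u + d) := by
  refine ⟨hD, (S.anti le_self_add).trans (h.2.trans (Nat.add_le_add_right (S.anti ?_) m))⟩
  rw [add_assoc u d e]
  exact add_le_add (add_le_add le_rfl he) le_rfl

variable (k : Type*) [Field k]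

/-- functions supported on `P` -/
def Sp (P : P2 → Prop) : Submodule k (P2 → k) where
  carrier := {g | ∀ u, ¬ P u → g u = 0}
  zero_mem' := fun _ _ => rfl
  add_mem' {a b} ha hb := fun u hu => by simp [ha u hu, hb u hu]
  smul_mem' r a ha := fun u hu => by simp [ha u hu]

variable {k}

theorem finrank_Sp (P : P2 → Prop) (hP : ∀ u, P u → D S m u) :
    Module.Finite k (Sp k P) ∧
      Module.finrank k (Sp k P) = ((Finset.range S.N ×ˢ Finset.range S.N).filter P).card := by
  let e : Sp k P ≃ₗ[k] ({u // u ∈ (Finset.range S.N ×ˢ Finset.range S.N).filter P} → k) :=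
    { toFun := fun g u => g.1 u.1
      map_add' := fun _ _ => rfl
      map_smul' := fun _ _ => rfl
      invFun := fun g => ⟨fun u => if h : u ∈ (Finset.range S.N ×ˢ Finset.range S.N).filter P then g ⟨u, h⟩ else 0,
        fun u hu => dif_neg fun h => hu (Finset.mem_filter.1 h).2⟩
      left_inv := fun g => Subtype.ext (funext fun u => by
        dsimp only
        split_ifs with h
        · rfl
        · exact (g.2 u fun hu => h (Finset.mem_filter.2 ⟨box (hP u hu), hu⟩)).symm)
      right_inv := fun g => funext fun u => dif_pos u.2 }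
  refine ⟨Module.Finite.equiv e.symm, ?_⟩
  rw [e.finrank_eq, Module.finrank_fintype_fun_eq_card, Fintype.card_coe]

/-- restriction to `P` -/
noncomputable def mask (P : P2 → Prop) : (P2 → k) →ₗ[k] Sp k P where
  toFun g := ⟨fun u => if P u then g u else 0, fun u hu => if_neg hu⟩
  map_add' a b := Subtype.ext (funext fun u => by by_cases h : P u <;> simp [h])
  map_smul' r a := Subtype.ext (funext fun u => by by_cases h : P u <;> simp [h])

theorem mask_pos {P : P2 → Prop} (g : P2 → k) {u : P2} (h : P u) : (mask P g).1 u = g u := if_pos h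
theorem mask_neg {P : P2 → Prop} (g : P2 → k) {u : P2} (h : ¬ P u) : (mask P g).1 u = 0 := if_neg h

/-- the difference operator in direction `e` -/
def diff (e : P2) : (P2 → k) →ₗ[k] (P2 → k) where
  toFun g u := g (u + e) - g u
  map_add' a b := funext fun u => by simp; ring
  map_smul' r a := funext fun u => by simp; ring

/-- the boundary operator from edges to squares -/
def d1 : (P2 → k) × (P2 → k) →ₗ[k] (P2 → k) where
  toFun z u := z.1 u + z.2 (u + e1) - z.1 (u + e2) - z.2 u
  map_add' a b := funext fun u => by simp; ring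
  map_smul' r a := funext fun u => by simp; ring

theorem not_D_add {u d : P2} (h : ¬ D S m u) : ¬ D S m (u + d) := fun h' => h (lt_of_lt_of_le h' (S.anti le_self_add))

theorem not_D_big {u : P2} (h : S.N ≤ u.1) : ¬ D S m u := fun h' => by
  have := Finset.mem_product.1 (box h')
  simp at this
  omega

/-- minus the sum along horizontal lines -/
noncomputable def prim (w : P2 → k) : P2 → k := fun u => -∑ t ∈ Finset.range S.N, w (u + (t, 0))

theorem prim_step {w : P2 → k} (hw : w ∈ Sp k (D S m)) (u : P2) :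
    prim (S := S) w (u + e1) - prim (S := S) w u = w u := by
  have key := Finset.sum_range_succ' (fun t => w (u + (t, 0))) S.N
  rw [Finset.sum_range_succ, hw _ (not_D_big (by simp)), add_zero] at key
  have e : ∀ t : ℕ, u + e1 + (t, 0) = u + (t + 1, 0) := fun t => by ext <;> simp [e1]; omega
  simp only [prim, e]
  rw [key, show (u + (0, 0) : P2) = u from add_zero u]
  ring

theorem prim_mem {w : P2 → k} (hw : w ∈ Sp k (D S m)) : prim (S := S) w ∈ Sp k (D S m) := fun u hu => by
  simp only [prim]
  rw [Finset.sum_eq_zero fun t _ => hw _ (not_D_add hu), neg_zero]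

theorem d1_surjective {w : P2 → k} (hw : w ∈ Sp k (D S m)) :
    ∃ z : Sp k (D S m) × Sp k (D S m), ∀ u, d1 (z.1.1, z.2.1) u = w u := by
  refine ⟨(0, ⟨_, prim_mem hw⟩), fun u => ?_⟩
  show (0 : k) + prim (S := S) w (u + e1) - 0 - prim (S := S) w u = w u
  rw [zero_add, sub_zero]
  exact prim_step hw u

theorem d1_exact {z1 z2 : P2 → k} (h1 : z1 ∈ Sp k (D S m)) (h2 : z2 ∈ Sp k (D S m))
    (h : ∀ u, D S m u → d1 (z1, z2) u = 0) :
    ∃ g ∈ Sp k (D S m), ∀ u, D S m u → diff e1 g u = z1 u ∧ diff e2 g u = z2 u := by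
  refine ⟨_, prim_mem h1, ?_⟩
  set g := prim (S := S) z1 with hg
  have hgm : g ∈ Sp k (D S m) := prim_mem h1
  have key : ∀ (n : ℕ) (u : P2), S.N ≤ u.1 + n → z2 u - diff e2 g u = 0 := by
    intro n
    induction n with
    | zero =>
      intro u hu
      have hd : ¬ D S m u := not_D_big (by simpa using hu)
      show z2 u - (g (u + e2) - g u) = 0
      rw [h2 u hd, hgm u hd, hgm _ (not_D_add hd)]
      simp
    | succ n ih =>
      intro u hu
      by_cases hd : D S m u
      · have e := ih (u + e1) (by simp [e1]; omega)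
        have hh := h u hd
        have s1 := prim_step h1 u
        have s2 := prim_step h1 (u + e2)
        rw [add_right_comm] at s2
        simp only [d1, diff, LinearMap.coe_mk, AddHom.coe_mk, ← hg] at e hh s1 s2 ⊢
        linear_combination e - hh + s2 - s1
      · show z2 u - (g (u + e2) - g u) = 0
        rw [h2 u hd, hgm u hd, hgm _ (not_D_add hd)]
        simp
  exact fun u _ => ⟨prim_step h1 u, (sub_eq_zero.1 (key S.N u (by omega))).symm⟩

variable (S α m k)

/-- functions on present vertices, constant along present edges -/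
def kerV : Submodule k (P2 → k) where
  carrier := {g | g ∈ Sp k (cellP S α m 0) ∧ (∀ u, cellP S α m e1 u → g (u + e1) = g u) ∧
    (∀ u, cellP S α m e2 u → g (u + e2) = g u)}
  zero_mem' := ⟨(Sp k _).zero_mem, fun _ _ => rfl, fun _ _ => rfl⟩
  add_mem' {a b} ha hb := ⟨(Sp k _).add_mem ha.1 hb.1, fun u h => by simp [ha.2.1 u h, hb.2.1 u h],
    fun u h => by simp [ha.2.2 u h, hb.2.2 u h]⟩
  smul_mem' r a ha := ⟨(Sp k _).smul_mem r ha.1, fun u h => by simp [ha.2.1 u h], fun u h => by simp [ha.2.2 u h]⟩

/-- functions on absent squares, constant across absent edges and zero across absent edges on the axes -/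
def kerM : Submodule k (P2 → k) where
  carrier := {φ | φ ∈ Sp k (cellA S α m e12) ∧
    (∀ u, cellA S α m e1 u → φ u = if u.2 = 0 then 0 else φ (u.1, u.2 - 1)) ∧
    (∀ u, cellA S α m e2 u → φ u = if u.1 = 0 then 0 else φ (u.1 - 1, u.2))}
  zero_mem' := ⟨(Sp k _).zero_mem, fun u _ => by simp, fun u _ => by simp⟩
  add_mem' {a b} ha hb := ⟨(Sp k _).add_mem ha.1 hb.1,
    fun u h => by simp only [Pi.add_apply, ha.2.1 u h, hb.2.1 u h]; split_ifs <;> simp,
    fun u h => by simp only [Pi.add_apply, ha.2.2 u h, hb.2.2 u h]; split_ifs <;> simp⟩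
  smul_mem' r a ha := ⟨(Sp k _).smul_mem r ha.1,
    fun u h => by simp only [Pi.smul_apply, ha.2.1 u h]; split_ifs <;> simp,
    fun u h => by simp only [Pi.smul_apply, ha.2.2 u h]; split_ifs <;> simp⟩

/-- number of present cells of a given shape -/
noncomputable def cnt (e : P2) : ℕ := ((Finset.range S.N ×ˢ Finset.range S.N).filter (cellP S α m e)).card

/-- differentials of the complex of present cells, and of the absent cells -/
noncomputable def d0K : Sp k (cellP S α m 0) →ₗ[k] Sp k (cellP S α m e1) × Sp k (cellP S α m e2) :=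
  (((mask (cellP S α m e1)).comp (diff e1)).prod ((mask (cellP S α m e2)).comp (diff e2))).comp (Submodule.subtype _)

noncomputable def d1K : Sp k (cellP S α m e1) × Sp k (cellP S α m e2) →ₗ[k] Sp k (cellP S α m e12) :=
  (mask (cellP S α m e12)).comp (d1.comp (LinearMap.prodMap (Submodule.subtype _) (Submodule.subtype _)))

noncomputable def dA : Sp k (cellA S α m e1) × Sp k (cellA S α m e2) →ₗ[k] Sp k (cellA S α m e12) :=
  (mask (cellA S α m e12)).comp (d1.comp (LinearMap.prodMap (Submodule.subtype _) (Submodule.subtype _)))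

variable {S α m k}

theorem d1_absent {z : Sp k (cellA S α m e1) × Sp k (cellA S α m e2)} {u : P2} (hu : cellP S α m e12 u) :
    d1 (z.1.1, z.2.1) u = 0 := by
  have a1 : z.1.1 u = 0 := z.1.2 _ (cell_not (cellP_mono hu (by decide)))
  have a2 : z.2.1 u = 0 := z.2.2 _ (cell_not (cellP_mono hu (by decide)))
  have a3 : z.1.1 (u + e2) = 0 := z.1.2 _ fun h => cell_not (cellP_up hu (le_of_eq rfl) (cellA_D h)) h
  have a4 : z.2.1 (u + e1) = 0 := z.2.2 _ fun h => cell_not (cellP_up hu (le_of_eq rfl) (cellA_D h)) h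
  show z.1.1 u + z.2.1 (u + e1) - z.1.1 (u + e2) - z.2.1 u = 0
  rw [a1, a2, a3, a4]; simp

theorem mem_of_cellP {e : P2} {g : P2 → k} (hg : g ∈ Sp k (cellP S α m e)) : g ∈ Sp k (D S m) :=
  fun u hu => hg u fun h => hu h.1

theorem mem_of_cellA {e : P2} {g : P2 → k} (hg : g ∈ Sp k (cellA S α m e)) : g ∈ Sp k (D S m) :=
  fun u hu => hg u fun h => hu (cellA_D h)

/-- `z ↦ [d1 z]` from present 1-cycles to the cokernel of the absent part. -/
noncomputable def conn : LinearMap.ker (d1K S α m k) →ₗ[k] Sp k (cellA S α m e12) ⧸ LinearMap.range (dA S α m k) :=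
  (LinearMap.range (dA S α m k)).mkQ.comp ((mask (cellA S α m e12)).comp
    ((d1.comp (LinearMap.prodMap (Submodule.subtype _) (Submodule.subtype _))).comp (Submodule.subtype _)))

theorem conn_surjective : Function.Surjective (conn (S := S) (α := α) (m := m) (k := k)) := by
  intro q
  obtain ⟨w, rfl⟩ := Submodule.mkQ_surjective _ q
  obtain ⟨z, hz⟩ := d1_surjective (mem_of_cellA w.2)
  let zK := (mask (k := k) (cellP S α m e1) z.1.1, mask (k := k) (cellP S α m e2) z.2.1)
  let zA := (mask (k := k) (cellA S α m e1) z.1.1, mask (k := k) (cellA S α m e2) z.2.1)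
  have hsplit : ∀ (e : P2) (g : Sp k (D S m)) (u : P2),
      (mask (k := k) (cellP S α m e) g.1).1 u + (mask (k := k) (cellA S α m e) g.1).1 u = g.1 u := by
    intro e g u
    by_cases hd : D S m u
    · rcases cell_or (α := α) (e := e) hd with h | h
      · rw [mask_pos _ h, mask_neg _ (cell_not h), add_zero]
      · rw [mask_pos _ h, mask_neg _ (fun hh => cell_not hh h), zero_add]
    · rw [mask_neg _ (fun h => hd h.1), mask_neg _ (fun h => hd (cellA_D h)), g.2 u hd, add_zero]
  have hd1 : ∀ u, d1 (zK.1.1, zK.2.1) u + d1 (zA.1.1, zA.2.1) u = w.1 u := fun u => by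
    rw [← hz u]
    show _ = z.1.1 u + z.2.1 (u + e1) - z.1.1 (u + e2) - z.2.1 u
    rw [← hsplit e1 z.1 u, ← hsplit e2 z.2 (u + e1), ← hsplit e1 z.1 (u + e2), ← hsplit e2 z.2 u]
    simp only [d1, LinearMap.coe_mk, AddHom.coe_mk, zK, zA]
    ring
  have hker : zK ∈ LinearMap.ker (d1K S α m k) := by
    refine LinearMap.mem_ker.2 (Subtype.ext (funext fun u => ?_))
    show (mask _ (d1 (zK.1.1, zK.2.1))).1 u = 0
    by_cases hu : cellP S α m e12 u
    · rw [mask_pos _ hu]
      have := hd1 u
      rw [d1_absent hu, add_zero, w.2 u (cell_not hu)] at this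
      exact this
    · exact mask_neg _ hu
  refine ⟨⟨zK, hker⟩, (Submodule.Quotient.eq _).2 ⟨-zA, Subtype.ext (funext fun u => ?_)⟩⟩
  show (dA S α m k (-zA)).1 u = (mask _ (d1 (zK.1.1, zK.2.1))).1 u - w.1 u
  rw [map_neg]
  show -(mask _ (d1 (zA.1.1, zA.2.1))).1 u = _
  by_cases hu : cellA S α m e12 u
  · rw [mask_pos _ hu, mask_pos _ hu, ← hd1 u]; ring
  · rw [mask_neg _ hu, mask_neg _ hu, w.2 u hu]; simp

theorem d1_diff (g : P2 → k) (u : P2) : d1 (diff e1 g, diff e2 g) u = 0 := by
  simp only [d1, diff, LinearMap.coe_mk, AddHom.coe_mk]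
  rw [show u + e2 + e1 = u + e1 + e2 from add_right_comm _ _ _]
  ring

theorem ker_conn :
    (LinearMap.ker (conn (S := S) (α := α) (m := m) (k := k))).map (LinearMap.ker (d1K S α m k)).subtype =
      LinearMap.range (d0K S α m k) := by
  refine le_antisymm ?_ ?_
  · rintro _ ⟨z, hz, rfl⟩
    obtain ⟨zA, hA⟩ := (Submodule.Quotient.mk_eq_zero _).1 hz
    have hK := LinearMap.mem_ker.1 z.2
    let z1 : P2 → k := z.1.1.1 - zA.1.1
    let z2 : P2 → k := z.1.2.1 - zA.2.1
    obtain ⟨g, hg, hgz⟩ := d1_exact (S := S) (m := m) (z1 := z1) (z2 := z2)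
      ((Sp k _).sub_mem (mem_of_cellP z.1.1.2) (mem_of_cellA zA.1.2))
      ((Sp k _).sub_mem (mem_of_cellP z.1.2.2) (mem_of_cellA zA.2.2)) fun u hu => by
        have : d1 (z1, z2) u = d1 (z.1.1.1, z.1.2.1) u - d1 (zA.1.1, zA.2.1) u :=
          congrFun (map_sub d1 (z.1.1.1, z.1.2.1) (zA.1.1, zA.2.1)) u
        rw [this]
        rcases cell_or (α := α) (e := e12) hu with h | h
        · rw [d1_absent h, sub_zero]
          exact (mask_pos _ h).symm.trans (congrFun (congrArg Subtype.val hK) u)
        · have hh := congrFun (congrArg Subtype.val hA) u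
          exact sub_eq_zero.2 ((mask_pos _ h).symm.trans (hh.symm.trans (mask_pos _ h)))
    have hgV : ∀ u, (mask (k := k) (cellP S α m 0) g).1 u = g u ∨ (cellA S α m 0 u) := fun u => by
      by_cases h : cellP S α m 0 u
      · exact Or.inl (mask_pos _ h)
      · by_cases hd : D S m u
        · exact Or.inr ((cell_or hd).resolve_left h)
        · exact Or.inl ((mask_neg _ h).trans (hg u hd).symm)
    refine ⟨mask _ g, Prod.ext ?_ ?_⟩
    all_goals refine Subtype.ext (funext fun u => ?_)
    · show (mask _ (diff e1 (mask (k := k) (cellP S α m 0) g).1)).1 u = z.1.1.1 u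
      by_cases h : cellP S α m e1 u
      · have b1 : (mask (k := k) (cellP S α m 0) g).1 u = g u := mask_pos _ (cellP_mono h (by decide))
        have b2 : (mask (k := k) (cellP S α m 0) g).1 (u + e1) = g (u + e1) := (hgV _).resolve_right fun hh =>
          cell_not (cellP_up h (le_of_eq (add_zero _)) (cellA_D hh)) hh
        rw [mask_pos _ h]
        show (mask (k := k) (cellP S α m 0) g).1 (u + e1) - (mask (k := k) (cellP S α m 0) g).1 u = _
        rw [b1, b2]
        refine ((hgz u h.1).1).trans ?_
        show z.1.1.1 u - zA.1.1 u = _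
        rw [zA.1.2 u (cell_not h), sub_zero]
      · rw [mask_neg _ h, z.1.1.2 u h]
    · show (mask _ (diff e2 (mask (k := k) (cellP S α m 0) g).1)).1 u = z.1.2.1 u
      by_cases h : cellP S α m e2 u
      · have b1 : (mask (k := k) (cellP S α m 0) g).1 u = g u := mask_pos _ (cellP_mono h (by decide))
        have b2 : (mask (k := k) (cellP S α m 0) g).1 (u + e2) = g (u + e2) := (hgV _).resolve_right fun hh =>
          cell_not (cellP_up h (le_of_eq (add_zero _)) (cellA_D hh)) hh
        rw [mask_pos _ h]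
        show (mask (k := k) (cellP S α m 0) g).1 (u + e2) - (mask (k := k) (cellP S α m 0) g).1 u = _
        rw [b1, b2]
        refine ((hgz u h.1).2).trans ?_
        show z.1.2.1 u - zA.2.1 u = _
        rw [zA.2.2 u (cell_not h), sub_zero]
      · rw [mask_neg _ h, z.1.2.2 u h]
  · rintro _ ⟨g, rfl⟩
    let zA := (mask (k := k) (cellA S α m e1) (diff e1 g.1), mask (k := k) (cellA S α m e2) (diff e2 g.1))
    have hsplit : ∀ (e u : P2), (mask (k := k) (cellP S α m e) (diff e g.1)).1 u +
        (mask (k := k) (cellA S α m e) (diff e g.1)).1 u = diff e g.1 u := fun e u => by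
      by_cases hd : D S m u
      · rcases cell_or (α := α) (e := e) hd with h | h
        · rw [mask_pos _ h, mask_neg _ (cell_not h), add_zero]
        · rw [mask_pos _ h, mask_neg _ (fun hh => cell_not hh h), zero_add]
      · rw [mask_neg _ (fun h => hd h.1), mask_neg _ (fun h => hd (cellA_D h))]
        show _ = g.1 (u + e) - g.1 u
        rw [mem_of_cellP g.2 u hd, mem_of_cellP g.2 _ (not_D_add hd)]
        simp
    have key : ∀ u, d1 ((d0K S α m k g).1.1, (d0K S α m k g).2.1) u + d1 (zA.1.1, zA.2.1) u = 0 := fun u => by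
      rw [← d1_diff g.1 u]
      show _ = diff e1 g.1 u + diff e2 g.1 (u + e1) - diff e1 g.1 (u + e2) - diff e2 g.1 u
      rw [← hsplit e1 u, ← hsplit e2 (u + e1), ← hsplit e1 (u + e2), ← hsplit e2 u]
      simp only [d1, LinearMap.coe_mk, AddHom.coe_mk, zA]
      show _ = _
      simp only [d0K, LinearMap.coe_comp, Function.comp_apply, LinearMap.prod_apply, Function.prod_apply,
        Submodule.subtype_apply]
      ring
    have hk : d0K S α m k g ∈ LinearMap.ker (d1K S α m k) := by
      refine LinearMap.mem_ker.2 (Subtype.ext (funext fun u => ?_))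
      show (mask _ (d1 ((d0K S α m k g).1.1, (d0K S α m k g).2.1))).1 u = 0
      by_cases hu : cellP S α m e12 u
      · rw [mask_pos _ hu]
        have := key u
        rwa [d1_absent hu, add_zero] at this
      · exact mask_neg _ hu
    refine ⟨⟨_, hk⟩, (Submodule.Quotient.mk_eq_zero _).2 ⟨-zA, Subtype.ext (funext fun u => ?_)⟩, rfl⟩
    rw [map_neg]
    show -(mask _ (d1 (zA.1.1, zA.2.1))).1 u = (mask _ (d1 ((d0K S α m k g).1.1, (d0K S α m k g).2.1))).1 u
    by_cases hu : cellA S α m e12 u
    · rw [mask_pos _ hu, mask_pos _ hu]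
      exact (eq_neg_of_add_eq_zero_left (key u)).symm
    · rw [mask_neg _ hu, mask_neg _ hu, neg_zero]

theorem d1K_surjective : Function.Surjective (d1K S α m k) := by
  intro w
  obtain ⟨z, hz⟩ := d1_surjective (mem_of_cellP w.2)
  refine ⟨(mask _ z.1.1, mask _ z.2.1), Subtype.ext (funext fun u => ?_)⟩
  show (mask _ (d1 ((mask (k := k) (cellP S α m e1) z.1.1).1, (mask (k := k) (cellP S α m e2) z.2.1).1))).1 u = _
  by_cases hu : cellP S α m e12 u
  · rw [mask_pos _ hu, ← hz u]
    have a1 : ∀ e : P2, ∀ g : Sp k (D S m), ∀ v, (D S m v → cellP S α m e v) →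
        (mask (k := k) (cellP S α m e) g.1).1 v = g.1 v := fun e g v h => by
      by_cases hd : D S m v
      · exact mask_pos _ (h hd)
      · rw [mask_neg _ (fun hh => hd hh.1), g.2 v hd]
    show (mask (k := k) (cellP S α m e1) z.1.1).1 u + (mask (k := k) (cellP S α m e2) z.2.1).1 (u + e1) -
      (mask (k := k) (cellP S α m e1) z.1.1).1 (u + e2) - (mask (k := k) (cellP S α m e2) z.2.1).1 u = _
    rw [a1 e1 z.1 u (fun _ => cellP_mono hu (by decide)), a1 e2 z.2 (u + e1) (cellP_up hu (le_of_eq rfl)),
      a1 e1 z.1 (u + e2) (cellP_up hu (le_of_eq rfl)), a1 e2 z.2 u (fun _ => cellP_mono hu (by decide))]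
    rfl
  · rw [mask_neg _ hu, w.2 u hu]

/-- pairing on absent squares -/
noncomputable def pair : kerM S α m k →ₗ[k] Module.Dual k (Sp k (cellA S α m e12)) :=
  LinearMap.mk₂ k (fun φ w => ∑ u ∈ Finset.range S.N ×ˢ Finset.range S.N, φ.1 u * w.1 u)
    (fun a b w => by simp [add_mul, Finset.sum_add_distrib]) (fun r a w => by simp [mul_assoc, Finset.mul_sum])
    (fun a w v => by simp [mul_add, Finset.sum_add_distrib]) (fun r a w => by simp [mul_left_comm, Finset.mul_sum])

theorem sum_mul_delta {φ : P2 → k} (hφ : φ ∈ Sp k (cellA S α m e12)) (a : P2) :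
    ∑ u ∈ Finset.range S.N ×ˢ Finset.range S.N, φ u * (if u = a then 1 else 0) = φ a := by
  simp only [mul_ite, mul_one, mul_zero, Finset.sum_ite_eq']
  split_ifs with h
  · rfl
  · exact (hφ a fun ha => h (box (cellA_D ha))).symm

theorem sum_mul_d1 {φ : P2 → k} (hφ : φ ∈ Sp k (cellA S α m e12)) (z : (P2 → k) × (P2 → k))
    (hz1 : z.1 ∈ Sp k (D S m)) (hz2 : z.2 ∈ Sp k (D S m)) :
    ∑ u ∈ Finset.range S.N ×ˢ Finset.range S.N, φ u * d1 z u =
      ∑ v ∈ Finset.range S.N ×ˢ Finset.range S.N,
        (z.1 v * (φ v - if v.2 = 0 then 0 else φ (v.1, v.2 - 1)) +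
         z.2 v * ((if v.1 = 0 then 0 else φ (v.1 - 1, v.2)) - φ v)) := by
  have sh : ∀ (g : P2 → k) (d : P2), g ∈ Sp k (D S m) →
      ∑ u ∈ Finset.range S.N ×ˢ Finset.range S.N, φ u * g (u + d) =
        ∑ v ∈ Finset.range S.N ×ˢ Finset.range S.N, if d ≤ v then g v * φ (v - d) else 0 := by
    intro g d hg
    rw [← Finset.sum_filter]
    refine (Finset.sum_bij_ne_zero (fun u _ _ => u + d) (fun u _ hne => ?_) (fun a _ _ b _ _ => add_right_cancel) ?_ ?_)
    · refine Finset.mem_filter.2 ⟨box (S := S) (m := m) ?_, le_add_self⟩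
      by_contra hd
      exact hne (by rw [hg _ hd, mul_zero])
    · intro v hv hne
      obtain ⟨hv, hdv⟩ := Finset.mem_filter.1 hv
      have hvd : v - d + d = v := tsub_add_cancel_of_le hdv
      refine ⟨v - d, ?_, ?_, hvd⟩
      · have := Finset.mem_product.1 hv
        simp at this ⊢
        omega
      · rw [hvd, mul_comm]; exact hne
    · intro u _ _
      rw [add_tsub_cancel_right, mul_comm]
  have s0 : ∀ g : P2 → k, ∑ u ∈ Finset.range S.N ×ˢ Finset.range S.N, φ u * g u =
      ∑ v ∈ Finset.range S.N ×ˢ Finset.range S.N, g v * φ v := fun g => Finset.sum_congr rfl fun u _ => mul_comm _ _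
  have : ∀ u, φ u * d1 z u = φ u * z.1 u + φ u * z.2 (u + e1) - φ u * z.1 (u + e2) - φ u * z.2 u := fun u => by
    simp only [d1, LinearMap.coe_mk, AddHom.coe_mk]; ring
  rw [Finset.sum_congr rfl fun u _ => this u, Finset.sum_sub_distrib, Finset.sum_sub_distrib,
    Finset.sum_add_distrib, sh _ _ hz2, sh _ _ hz1, s0, s0, ← Finset.sum_add_distrib, ← Finset.sum_sub_distrib,
    ← Finset.sum_sub_distrib]
  refine Finset.sum_congr rfl fun v _ => ?_
  obtain ⟨a, b⟩ := v
  simp only [e1, e2, Prod.mk_le_mk, Prod.mk_sub_mk, Nat.sub_zero, Nat.zero_le, and_true, true_and]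
  rcases a with _ | a <;> rcases b with _ | b <;> simp <;> ring

theorem range_pair : LinearMap.range (pair (S := S) (α := α) (m := m) (k := k)) =
    (LinearMap.range (dA S α m k)).dualAnnihilator := by
  refine le_antisymm ?_ fun ℓ hℓ => ?_
  · rintro _ ⟨φ, rfl⟩
    rw [Submodule.mem_dualAnnihilator]
    rintro _ ⟨z, rfl⟩
    show ∑ u ∈ Finset.range S.N ×ˢ Finset.range S.N, φ.1 u * (dA S α m k z).1 u = 0
    have hm : ∀ u, φ.1 u * (dA S α m k z).1 u = φ.1 u * d1 (z.1.1, z.2.1) u := fun u => by
      by_cases hu : cellA S α m e12 u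
      · exact congrArg _ (mask_pos _ hu)
      · rw [φ.2.1 u hu, zero_mul, zero_mul]
    rw [Finset.sum_congr rfl fun u _ => hm u, sum_mul_d1 φ.2.1 _ (mem_of_cellA z.1.2) (mem_of_cellA z.2.2)]
    refine Finset.sum_eq_zero fun v _ => ?_
    have a1 : z.1.1 v * (φ.1 v - if v.2 = 0 then 0 else φ.1 (v.1, v.2 - 1)) = 0 := by
      by_cases h : cellA S α m e1 v
      · rw [← φ.2.2.1 v h, sub_self, mul_zero]
      · rw [z.1.2 v h, zero_mul]
    have a2 : z.2.1 v * ((if v.1 = 0 then 0 else φ.1 (v.1 - 1, v.2)) - φ.1 v) = 0 := by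
      by_cases h : cellA S α m e2 v
      · rw [← φ.2.2.2 v h, sub_self, mul_zero]
      · rw [z.2.2 v h, zero_mul]
    simp only [a1, a2, add_zero]
  · rw [Submodule.mem_dualAnnihilator] at hℓ
    let δ : P2 → P2 → k := fun a u => if u = a then 1 else 0
    let φ : P2 → k := fun a => ℓ (mask _ (δ a))
    have hφ : φ ∈ Sp k (cellA S α m e12) := fun a ha => by
      have : mask (k := k) (cellA S α m e12) (δ a) = 0 := Subtype.ext (funext fun u => by
        by_cases h : cellA S α m e12 u
        · rw [mask_pos _ h]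
          exact if_neg fun e => ha (by subst e; exact h)
        · exact mask_neg _ h)
      simp [φ, this]
    have hexp : ∀ w : Sp k (cellA S α m e12),
        w = ∑ a ∈ Finset.range S.N ×ˢ Finset.range S.N, w.1 a • mask (cellA S α m e12) (δ a) := fun w => by
      refine Subtype.ext (funext fun u => ?_)
      rw [Submodule.coe_sum, Finset.sum_apply]
      by_cases h : cellA S α m e12 u
      · rw [Finset.sum_eq_single u]
        · simp [mask_pos _ h, δ]
        · intro b _ hb
          simp [mask_pos _ h, δ, hb.symm]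
        · exact fun hn => absurd (box (cellA_D h)) hn
      · rw [w.2 u h, Finset.sum_eq_zero]
        intro b _
        simp [mask_neg _ h]
    have hℓφ : ∀ w, ℓ w = ∑ a ∈ Finset.range S.N ×ˢ Finset.range S.N, φ a * w.1 a := fun w => by
      conv_lhs => rw [hexp w, map_sum]
      exact Finset.sum_congr rfl fun a _ => by rw [map_smul, smul_eq_mul, mul_comm]
    have key : ∀ (z : Sp k (cellA S α m e1) × Sp k (cellA S α m e2)),
        ∑ v ∈ Finset.range S.N ×ˢ Finset.range S.N,
          (z.1.1 v * (φ v - if v.2 = 0 then 0 else φ (v.1, v.2 - 1)) +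
            z.2.1 v * ((if v.1 = 0 then 0 else φ (v.1 - 1, v.2)) - φ v)) = 0 := fun z => by
      rw [← sum_mul_d1 hφ (z.1.1, z.2.1) (mem_of_cellA z.1.2) (mem_of_cellA z.2.2)]
      have h0 := hℓ _ ⟨z, rfl⟩
      rw [hℓφ] at h0
      refine Eq.trans (Finset.sum_congr rfl fun u _ => ?_) h0
      by_cases hu : cellA S α m e12 u
      · exact congrArg _ (mask_pos _ hu).symm
      · rw [hφ u hu, zero_mul, zero_mul]
    refine ⟨⟨φ, hφ, fun v hv => ?_, fun v hv => ?_⟩, LinearMap.ext fun w => (hℓφ w).symm⟩
    · have := key (mask _ (δ v), 0)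
      rw [Finset.sum_eq_single v] at this
      · simpa [mask_pos _ hv, δ, sub_eq_zero] using this
      · intro b _ hb
        by_cases hbA : cellA S α m e1 b
        · simp [mask_pos _ hbA, δ, hb]
        · simp [mask_neg _ hbA]
      · exact fun hn => absurd (box (cellA_D hv)) hn
    · have := key (0, mask _ (δ v))
      rw [Finset.sum_eq_single v] at this
      · have : (if v.1 = 0 then 0 else φ (v.1 - 1, v.2)) - φ v = 0 := by simpa [mask_pos _ hv, δ] using this
        exact (sub_eq_zero.1 this).symm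
      · intro b _ hb
        by_cases hbA : cellA S α m e2 b
        · simp [mask_pos _ hbA, δ, hb]
        · simp [mask_neg _ hbA]
      · exact fun hn => absurd (box (cellA_D hv)) hn

theorem pair_injective : Function.Injective (pair (S := S) (α := α) (m := m) (k := k)) := by
  intro a b h
  refine Subtype.ext (funext fun u => ?_)
  by_cases hu : cellA S α m e12 u
  · have hh := DFunLike.congr_fun h (mask _ fun v => if v = u then 1 else 0)
    have e : ∀ φ : kerM S α m k, pair φ (mask _ fun v => if v = u then 1 else 0) = φ.1 u := fun φ => by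
      show ∑ v ∈ Finset.range S.N ×ˢ Finset.range S.N, φ.1 v * _ = _
      rw [← sum_mul_delta φ.2.1 u]
      refine Finset.sum_congr rfl fun v _ => ?_
      by_cases hv : cellA S α m e12 v
      · rw [mask_pos _ hv]
      · rw [φ.2.1 v hv, zero_mul, zero_mul]
    rwa [e, e] at hh
  · rw [a.2.1 u hu, b.2.1 u hu]

/-- The Euler characteristic identity. -/
theorem finrank_kerV (S : Stair) (α : P2) (m : ℕ) :
    Module.finrank k (kerV S α m k) + cnt S α m e1 + cnt S α m e2 =
      cnt S α m 0 + cnt S α m e12 + Module.finrank k (kerM S α m k) := by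
  obtain ⟨f0, c0⟩ := finrank_Sp (k := k) (S := S) (m := m) (cellP S α m 0) (fun u h => h.1)
  obtain ⟨f1, c1⟩ := finrank_Sp (k := k) (S := S) (m := m) (cellP S α m e1) (fun u h => h.1)
  obtain ⟨f2, c2⟩ := finrank_Sp (k := k) (S := S) (m := m) (cellP S α m e2) (fun u h => h.1)
  obtain ⟨f3, c3⟩ := finrank_Sp (k := k) (S := S) (m := m) (cellP S α m e12) (fun u h => h.1)
  obtain ⟨f4, -⟩ := finrank_Sp (k := k) (S := S) (m := m) (cellA S α m e12) (fun u h => cellA_D h)
  haveI := f0; haveI := f1; haveI := f2; haveI := f3; haveI := f4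
  have hM : Module.finrank k (kerM S α m k) =
      Module.finrank k (Sp k (cellA S α m e12) ⧸ LinearMap.range (dA S α m k)) := by
    rw [← LinearMap.finrank_range_of_inj pair_injective, range_pair,
      ← Subspace.dual_finrank_eq (V := Sp k (cellA S α m e12) ⧸ LinearMap.range (dA S α m k))]
    exact ((LinearMap.range (dA S α m k)).dualQuotEquivDualAnnihilator).finrank_eq.symm
  have hV : Module.finrank k (kerV S α m k) = Module.finrank k (LinearMap.ker (d0K S α m k)) := by
    refine LinearEquiv.finrank_eq (LinearEquiv.ofBijective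
      ({ toFun := fun g => ⟨⟨g.1, g.2.1⟩, LinearMap.mem_ker.2 (Prod.ext
          (Subtype.ext (funext fun u => by
            by_cases h : cellP S α m e1 u
            · exact (mask_pos _ h).trans (sub_eq_zero.2 (g.2.2.1 u h))
            · exact mask_neg _ h))
          (Subtype.ext (funext fun u => by
            by_cases h : cellP S α m e2 u
            · exact (mask_pos _ h).trans (sub_eq_zero.2 (g.2.2.2 u h))
            · exact mask_neg _ h)))⟩
         map_add' := fun _ _ => rfl
         map_smul' := fun _ _ => rfl } : kerV S α m k →ₗ[k] LinearMap.ker (d0K S α m k))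
      ⟨fun a b h => Subtype.ext (congrArg (fun x => x.1.1) h), fun g => ?_⟩)
    have h0 := LinearMap.mem_ker.1 g.2
    refine ⟨⟨g.1.1, g.1.2, fun u hu => ?_, fun u hu => ?_⟩, rfl⟩
    · exact sub_eq_zero.1 ((mask_pos (diff e1 g.1.1) hu).symm.trans
        (congrFun (congrArg Subtype.val (congrArg Prod.fst h0)) u))
    · exact sub_eq_zero.1 ((mask_pos (diff e2 g.1.1) hu).symm.trans
        (congrFun (congrArg Subtype.val (congrArg Prod.snd h0)) u))
  have r0 := (d0K S α m k).finrank_range_add_finrank_ker
  have r1 := (d1K S α m k).finrank_range_add_finrank_ker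
  have r2 := LinearMap.finrank_range_add_finrank_ker (K := k) (V := ↥(LinearMap.ker (d1K S α m k))) (conn (S := S) (α := α) (m := m) (k := k))
  have rk : Module.finrank k (LinearMap.ker (conn (S := S) (α := α) (m := m) (k := k))) =
      Module.finrank k (LinearMap.range (d0K S α m k)) := by
    rw [← ker_conn]
    exact (Submodule.equivMapOfInjective _ Subtype.val_injective _).finrank_eq
  rw [LinearMap.range_eq_top.2 d1K_surjective, finrank_top, Module.finrank_prod] at r1
  rw [LinearMap.range_eq_top.2 conn_surjective, finrank_top] at r2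
  unfold cnt
  omega

end Groth.Agent.H25Hilb.Plane
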