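import Groth.Agent.H25Hilb.Basic

/-! # `T(I)` as the direct sum of its graded pieces -/

open MvPolynomial W4c1hilbpn
open scoped Classical

namespace Groth.Agent.H25Hilb

variable {σ : Type*} {k : Type*} [Field k] {I : Ideal (MvPolynomial σ k)} [Finite σ]

theorem iSupIndep_tPiece (hI : IsMonomial I) : iSupIndep (tPiece I) := by
  intro α
  rw [Submodule.disjoint_def]
  intro φ h1 h2
  refine tgt_ext_cq hI fun β hβ δ _ => ?_
  rw [LinearMap.zero_apply, map_zero]
  by_contra hne
  have hz := (mem_tPiece_iff hI).1 h1 β hβ δ hne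
  let ev : Tgt I →ₗ[k] MvPolynomial σ k ⧸ I :=
    { toFun := fun ψ => ψ (mon hβ)
      map_add' := fun _ _ => rfl
      map_smul' := fun _ _ => rfl }
  suffices hle : (⨆ (α' : σ → ℤ) (_ : α' ≠ α), tPiece I α') ≤ LinearMap.ker ((cq hI δ).comp ev) from
    hne (LinearMap.mem_ker.1 (hle h2))
  refine iSup₂_le fun α' hα' ψ hψ => ?_
  rw [LinearMap.mem_ker]
  by_contra hne'
  exact hα' (add_left_cancel (((mem_tPiece_iff hI).1 hψ β hβ δ hne').symm.trans hz))

theorem finite_ne_bot (hI : IsMonomial I) [Module.Finite k (MvPolynomial σ k ⧸ I)] :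
    {α : σ → ℤ | tPiece I α ≠ ⊥}.Finite := by
  have := finite_tgt (I := I)
  haveI := (iSupIndep_tPiece hI).fintypeNeBotOfFiniteDimensional
  exact Set.finite_coe_iff.1 (Finite.of_fintype {α : σ → ℤ // tPiece I α ≠ ⊥})

theorem finrank_finset_sup (hI : IsMonomial I) [Module.Finite k (MvPolynomial σ k ⧸ I)] (A : Finset (σ → ℤ)) :
    Module.finrank k ↥(A.sup (tPiece I)) = ∑ α ∈ A, Module.finrank k ↥(tPiece I α) := by
  have := finite_tgt (I := I)
  induction A using Finset.induction_on with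
  | empty => rw [Finset.sup_empty, Finset.sum_empty]; exact finrank_bot _ _
  | insert a A ha ih =>
    have hd : tPiece I a ⊓ A.sup (tPiece I) = ⊥ :=
      (((iSupIndep_iff_supIndep.1 (iSupIndep_tPiece hI)) (insert a A)) (Finset.subset_insert a A)
        (Finset.mem_insert_self a A) ha).eq_bot
    have := Submodule.finrank_sup_add_finrank_inf_eq (tPiece I a) (A.sup (tPiece I))
    rw [hd, finrank_bot, add_zero] at this
    rw [Finset.sup_insert, Finset.sum_insert ha, this, ih]

/-- The dimension of the span of the pieces with multidegree satisfying `P`. -/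
theorem finrank_iSup_tPiece (hI : IsMonomial I) [Module.Finite k (MvPolynomial σ k ⧸ I)] (P : (σ → ℤ) → Prop)
    (A : Finset (σ → ℤ)) (hA : ∀ α ∈ A, P α) (hA' : ∀ α, P α → α ∉ A → tPiece I α = ⊥) :
    Module.finrank k ↥(⨆ α : {α : σ → ℤ // P α}, tPiece I α.1) = ∑ α ∈ A, Module.finrank k ↥(tPiece I α) := by
  rw [← finrank_finset_sup hI A]
  have : (⨆ α : {α : σ → ℤ // P α}, tPiece I α.1) = A.sup (tPiece I) := by
    refine le_antisymm (iSup_le fun α => ?_) (Finset.sup_le fun α hα => le_iSup (fun α : {α : σ → ℤ // P α} => tPiece I α.1) ⟨α, hA α hα⟩)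
    by_cases h : α.1 ∈ A
    · exact Finset.le_sup h
    · rw [hA' α.1 α.2 h]; exact bot_le
  rw [this]

variable [Fintype σ] [DecidableEq σ]

theorem finrank_tgt (hI : IsMonomial I) [Module.Finite k (MvPolynomial σ k ⧸ I)]
    (A : Finset (σ → ℤ)) (hA' : ∀ α, α ∉ A → tPiece I α = ⊥) :
    Module.finrank k (Tgt I) = ∑ α ∈ A, Module.finrank k ↥(tPiece I α) := by
  rw [← finrank_finset_sup hI A]
  have : A.sup (tPiece I) = ⊤ := by
    refine eq_top_iff.2 fun φ _ => ?_
    obtain ⟨B, hB⟩ := exists_sum_comp hI φ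
    rw [hB]
    refine Submodule.sum_mem _ fun α _ => ?_
    by_cases h : α ∈ A
    · exact Finset.le_sup (f := tPiece I) h (comp_mem hI α φ)
    · have := comp_mem hI α φ
      rw [hA' α h, Submodule.mem_bot] at this
      rw [this]; exact zero_mem _
  rw [this, finrank_top]

end Groth.Agent.H25Hilb
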