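import Groth.Agent.H25Hilb.Basic
import Groth.Agent.H25Hilb.Sum
import Groth.Agent.H25Hilb.Plane

/-! # Duality between the pieces of multidegree `(i, j, *)` and `(-i-1, -j-1, *)` -/

open MvPolynomial W4c1hilbpn
open scoped Classical

namespace Groth.Agent.H25Hilb

open Plane (P2 Stair)

variable {k : Type*} [Field k] {I : Ideal (MvPolynomial (Fin 3) k)}

theorem e3_apply (a b c : ℕ) : e3 a b c 0 = a ∧ e3 a b c 1 = b ∧ e3 a b c 2 = c := by simp [e3]

theorem zv_e3 (a b c : ℕ) : zv (e3 a b c) = ![(a : ℤ), (b : ℤ), (c : ℤ)] := by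
  funext l; fin_cases l <;> simp [zv, e3]

theorem eq_e3 (β : Fin 3 →₀ ℕ) : β = e3 (β 0) (β 1) (β 2) := by
  refine Finsupp.ext fun l => ?_
  fin_cases l <;> simp [e3]

theorem e3_le_e3 {a b c a' b' c' : ℕ} (ha : a ≤ a') (hb : b ≤ b') (hc : c ≤ c') : e3 a b c ≤ e3 a' b' c' :=
  fun l => by fin_cases l <;> simp [e3, ha, hb, hc]

section stair

variable (hI : IsMonomial I) [Module.Finite k (MvPolynomial (Fin 3) k ⧸ I)]

include hI

theorem mem_iff_stairZ (a b c : ℕ) : e3 a b c ∈ exps I ↔ stairZ I a b ≤ c := by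
  have hex : ∃ t, e3 a b t ∈ exps I := by
    obtain ⟨t, ht⟩ := exists_add_single_mem hI (e3 a b 0) 2
    exact ⟨t, exps_of_le ht fun l => by fin_cases l <;> simp [e3]⟩
  have hiff : ∀ c, e3 a b c ∈ exps I ↔ Nat.find hex ≤ c := fun c =>
    ⟨fun h => Nat.find_min' hex h, fun h => exps_of_le (Nat.find_spec hex) (e3_le_e3 le_rfl le_rfl h)⟩
  have : stairZ I a b = Nat.find hex := by
    rw [stairZ, Nat.card_congr ((Equiv.subtypeEquivRight (q := fun c => c < Nat.find hex) fun c => by
      rw [hiff c, not_le]).trans Fin.equivSubtype.symm), Nat.card_fin]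
  rw [this, hiff c]

/-- the staircase of a monomial ideal of finite colength -/
noncomputable def stair : Stair where
  f u := stairZ I u.1 u.2
  N := (Set.Finite.toFinset (Set.finite_coe_iff.1 (finite_std hI))).sup (fun δ => δ 0 + δ 1) + 1
  anti {u v} h := (mem_iff_stairZ hI _ _ _).1 (exps_of_le ((mem_iff_stairZ hI _ _ _).2 le_rfl) (e3_le_e3 h.1 h.2 le_rfl))
  supp u h := by
    have hn : e3 u.1 u.2 0 ∉ exps I := fun hh => h (Nat.le_zero.1 ((mem_iff_stairZ hI _ _ _).1 hh))
    have := Finset.le_sup (f := fun δ : Fin 3 →₀ ℕ => δ 0 + δ 1)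
      ((Set.Finite.mem_toFinset (Set.finite_coe_iff.1 (finite_std hI))).2 hn)
    simp only [(e3_apply _ _ _).1, (e3_apply _ _ _).2.1] at this
    omega

theorem stair_f (a b : ℕ) : (stair hI).f (a, b) = stairZ I a b := rfl

theorem mem_iff (u : P2) (c : ℕ) : e3 u.1 u.2 c ∈ exps I ↔ (stair hI).f u ≤ c := mem_iff_stairZ hI _ _ _

end stair

variable (hI : IsMonomial I) [Module.Finite k (MvPolynomial (Fin 3) k ⧸ I)] (i j m : ℕ)

/-- the multidegree `(i, j, -m-1)` -/
def degP : Fin 3 → ℤ := ![(i : ℤ), (j : ℤ), -(m : ℤ) - 1]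

/-- the multidegree `(-i-1, -j-1, m)` -/
def degM : Fin 3 → ℤ := ![-(i : ℤ) - 1, -(j : ℤ) - 1, (m : ℤ)]

/-- the point over `u + (i,j)` at height `z` -/
def ptP (u : P2) (z : ℤ) : Fin 3 → ℤ := ![(u.1 : ℤ) + i, (u.2 : ℤ) + j, z]

theorem ptP_eq (u : P2) (b : ℕ) : zv (e3 u.1 u.2 b) + degP i j m = ptP i j u ((b : ℤ) - m - 1) := by
  rw [zv_e3]; funext l; fin_cases l <;> simp [degP, ptP] <;> ring

theorem ptP_single (u : P2) (z : ℤ) :
    ptP i j u z + Pi.single 0 1 = ptP i j (u + Plane.e1) z ∧ ptP i j u z + Pi.single 1 1 = ptP i j (u + Plane.e2) z ∧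
      ptP i j u z + Pi.single 2 1 = ptP i j u (z + 1) := by
  refine ⟨?_, ?_, ?_⟩ <;> funext l <;> fin_cases l <;> simp [ptP, Plane.e1, Plane.e2] <;> ring

include hI in
theorem good_ptP (u : P2) (z : ℤ) :
    Good I (degP i j m) (ptP i j u z) ↔
      0 ≤ z ∧ ((stair hI).f u : ℤ) ≤ z + m + 1 ∧ z < (stair hI).f (u + (i, j)) := by
  constructor
  · rintro ⟨β, δ, hβ, hδ, h1, h2⟩
    rw [eq_e3 δ] at hδ h1
    rw [eq_e3 β] at hβ h2
    rw [eq_e3 δ] at h2
    rw [zv_e3] at h1 h2
    rw [zv_e3] at h2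
    have a0 := congrFun h1 0; have a1 := congrFun h1 1; have a2 := congrFun h1 2
    have b0 := congrFun h2 0; have b1 := congrFun h2 1; have b2 := congrFun h2 2
    simp [ptP, degP] at a0 a1 a2 b0 b1 b2
    rw [show β 0 = u.1 by omega, show β 1 = u.2 by omega, mem_iff hI] at hβ
    rw [show δ 0 = (u + (i, j)).1 by simp; omega, show δ 1 = (u + (i, j)).2 by simp; omega, mem_iff hI] at hδ
    omega
  · rintro ⟨h0, h1, h2⟩
    refine ⟨e3 u.1 u.2 (z + m + 1).toNat, e3 (u + (i, j)).1 (u + (i, j)).2 z.toNat, ?_, ?_, ?_, ?_⟩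
    · rw [mem_iff hI]; omega
    · rw [mem_iff hI]; omega
    · rw [zv_e3]; funext l; fin_cases l <;> simp [ptP, h0]
    · rw [zv_e3, zv_e3]; funext l; fin_cases l <;> simp [degP] <;> omega

theorem good_degP_pt {γ : Fin 3 → ℤ} (h : Good I (degP i j m) γ) :
    ∃ (u : P2) (z : ℤ), γ = ptP i j u z := by
  obtain ⟨β, δ, -, -, h1, h2⟩ := h
  refine ⟨(β 0, β 1), γ 2, ?_⟩
  funext l
  have := congrFun h2 l
  have := congrFun h1 l
  fin_cases l <;> simp [degP, ptP, zv] at * <;> omega

theorem cfun_chainP {h : (Fin 3 → ℤ) → k} (hc : h ∈ cfun I (degP i j m)) (u : P2) (z : ℕ)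
    (hz : Good I (degP i j m) (ptP i j u z)) :
    h (ptP i j u z) = if m < (stair hI).f u then h (ptP i j u (((stair hI).f u : ℤ) - m - 1)) else 0 := by
  induction z with
  | zero =>
    have hg := (good_ptP hI i j m u _).1 hz
    by_cases hm : m < (stair hI).f u
    · rw [if_pos hm]
      congr 2
      omega
    · rw [if_neg hm]
      have hb : e3 u.1 u.2 m ∈ exps I := (mem_iff hI u m).2 (not_lt.1 hm)
      have hh := hc.2 _ hb 2
      rw [ptP_eq, (ptP_single i j u _).2.2, show ((m : ℤ) - m - 1 + 1) = ((0 : ℕ) : ℤ) by simp] at hh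
      rw [hh hz, hc.1]
      intro hg'
      have := ((good_ptP hI i j m u _).1 hg').1
      omega
  | succ z ih =>
    obtain ⟨h0, h1, h2⟩ := (good_ptP hI i j m u _).1 hz
    by_cases hle : (stair hI).f u ≤ z + m + 1
    · have hh := hc.2 _ ((mem_iff hI u _).2 hle) 2
      rw [ptP_eq, (ptP_single i j u _).2.2,
        show (((z + m + 1 : ℕ) : ℤ) - m - 1 + 1) = ((z + 1 : ℕ) : ℤ) by push_cast; ring,
        show (((z + m + 1 : ℕ) : ℤ) - m - 1) = ((z : ℕ) : ℤ) by push_cast; ring] at hh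
      rw [hh hz]
      exact ih ((good_ptP hI i j m u _).2 ⟨by omega, by omega, by omega⟩)
    · rw [if_pos (show m < (stair hI).f u by omega)]
      congr 2
      omega

/-- `T(I)` in multidegree `(i, j, -m-1)` through the staircase. -/
theorem finrank_tPiece_degP :
    Module.finrank k (tPiece I (degP i j m)) = Module.finrank k (Plane.kerV (stair hI) (i, j) m k) := by
  rw [(pieceEquiv hI (degP i j m)).finrank_eq]
  set S := stair hI with hS
  let g : ((Fin 3 → ℤ) → k) → P2 → k := fun h u =>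
    if m < S.f u then h (ptP i j u ((S.f u : ℤ) - m - 1)) else 0
  have hchain : ∀ h ∈ cfun I (degP i j m), ∀ (u : P2) (z : ℤ), Good I (degP i j m) (ptP i j u z) →
      h (ptP i j u z) = g h u := fun h hh u z hz => by
    obtain ⟨n, rfl⟩ := Int.eq_ofNat_of_zero_le ((good_ptP hI i j m u z).1 hz).1
    exact cfun_chainP hI i j m hh u n hz
  have hedge : ∀ h ∈ cfun I (degP i j m), ∀ (l : Fin 3) (d : P2),
      (∀ u z, ptP i j u z + Pi.single l 1 = ptP i j (u + d) z) →
      ∀ u, Plane.cellP S (i, j) m d u → g h (u + d) = g h u := by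
    intro h hh l d hd u hu
    obtain ⟨hu1, hu2⟩ := hu
    have hb : e3 u.1 u.2 (S.f u) ∈ exps I := (mem_iff hI u _).2 le_rfl
    have hle := S.anti (u := u) (v := u + d) le_self_add
    have hgood : Good I (degP i j m) (ptP i j (u + d) ((S.f u : ℤ) - m - 1)) :=
      (good_ptP hI i j m _ _).2 ⟨by omega, by rw [← hS]; omega, by rw [← hS]; omega⟩
    have := hh.2 _ hb l
    rw [ptP_eq, hd] at this
    rw [← hchain h hh _ _ hgood, this hgood]
    simp [g, hu1]
  refine LinearEquiv.finrank_eq (LinearEquiv.ofBijective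
    ({ toFun := fun h => ⟨g h.1, fun u hu => ?_, fun u hu => ?_, fun u hu => ?_⟩
       map_add' := fun a b => Subtype.ext (funext fun u => by by_cases hm : m < S.f u <;> simp [g, hm])
       map_smul' := fun r a => Subtype.ext (funext fun u => by by_cases hm : m < S.f u <;> simp [g, hm]) } :
      cfun I (degP i j m) →ₗ[k] Plane.kerV S (i, j) m k) ⟨fun a b hab => ?_, fun v => ?_⟩)
  · simp only [g]
    split_ifs with hm
    · refine h.2.1 _ fun hg => hu ⟨hm, ?_⟩
      have := ((good_ptP hI i j m u _).1 hg).2.2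
      rw [← hS] at this
      rw [show u + 0 + (i, j) = u + (i, j) by rw [add_zero]]
      omega
    · rfl
  · exact hedge h.1 h.2 0 _ (fun u z => (ptP_single i j u z).1) u hu
  · exact hedge h.1 h.2 1 _ (fun u z => (ptP_single i j u z).2.1) u hu
  · refine Subtype.ext (funext fun γ => ?_)
    by_cases hγ : Good I (degP i j m) γ
    · obtain ⟨u, z, rfl⟩ := good_degP_pt i j m hγ
      rw [hchain _ a.2 u z hγ, hchain _ b.2 u z hγ]
      exact congrFun (congrArg Subtype.val hab) u
    · rw [a.2.1 γ hγ, b.2.1 γ hγ]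
  · obtain ⟨w, hw0, hw1, hw2⟩ := v
    let back : (Fin 3 → ℤ) → k := fun γ =>
      if Good I (degP i j m) γ then w ((γ 0).toNat - i, (γ 1).toNat - j) else 0
    have hback : ∀ u z, Good I (degP i j m) (ptP i j u z) → back (ptP i j u z) = w u := fun u z hz => by
      simp only [back, if_pos hz]
      congr 1
      ext <;> simp [ptP] <;> omega
    have hmem : back ∈ cfun I (degP i j m) := by
      refine ⟨fun γ hγ => if_neg hγ, fun β hβ l hg => ?_⟩
      rw [eq_e3 β] at hβ hg ⊢
      rw [show zv (e3 (β 0) (β 1) (β 2)) + degP i j m = ptP i j (β 0, β 1) ((β 2 : ℤ) - m - 1) from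
        ptP_eq i j m (β 0, β 1) (β 2)] at hg ⊢
      have hb : S.f (β 0, β 1) ≤ β 2 := (mem_iff hI (β 0, β 1) (β 2)).1 hβ
      obtain ⟨p0, p1, p2⟩ := ptP_single i j (β 0, β 1) ((β 2 : ℤ) - m - 1)
      have hstep : ∀ d : P2, Plane.e1 = d ∨ Plane.e2 = d →
          ptP i j (β 0, β 1) ((β 2 : ℤ) - m - 1) + Pi.single l 1 = ptP i j ((β 0, β 1) + d) ((β 2 : ℤ) - m - 1) →
          back (ptP i j (β 0, β 1) ((β 2 : ℤ) - m - 1) + Pi.single l 1) =
            back (ptP i j (β 0, β 1) ((β 2 : ℤ) - m - 1)) := by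
        intro d hd he
        rw [he] at hg ⊢
        obtain ⟨g0, g1, g2⟩ := (good_ptP hI i j m _ _).1 hg
        rw [← hS] at g1 g2
        have hle := S.anti (u := (β 0, β 1) + (i, j)) (v := (β 0, β 1) + d + (i, j))
          (add_le_add le_self_add le_rfl)
        have hbase : Good I (degP i j m) (ptP i j (β 0, β 1) ((β 2 : ℤ) - m - 1)) :=
          (good_ptP hI i j m _ _).2 ⟨g0, by rw [← hS]; omega, by rw [← hS]; omega⟩
        rw [hback _ _ hg, hback _ _ hbase]
        by_cases hD : m < S.f (β 0, β 1)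
        · have hc : Plane.cellP S (i, j) m d (β 0, β 1) := ⟨hD, by omega⟩
          rcases hd with rfl | rfl
          · exact hw1 _ hc
          · exact hw2 _ hc
        · rw [hw0 _ fun hc => hD hc.1, hw0 _ fun hc => Plane.not_D_add (d := d) hD hc.1]
      fin_cases l
      · exact hstep _ (Or.inl rfl) p0
      · exact hstep _ (Or.inr rfl) p1
      · simp only [Fin.reduceFinMk] at hg ⊢
        rw [p2] at hg ⊢
        obtain ⟨g0, g1, g2⟩ := (good_ptP hI i j m _ _).1 hg
        rw [hback _ _ hg]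
        by_cases hz : (0 : ℤ) ≤ (β 2 : ℤ) - m - 1
        · rw [hback _ _ ((good_ptP hI i j m _ _).2 ⟨hz, by rw [← hS]; omega, by omega⟩)]
        · rw [show back (ptP i j (β 0, β 1) ((β 2 : ℤ) - m - 1)) = 0 from
            if_neg fun hg' => hz ((good_ptP hI i j m _ _).1 hg').1]
          exact hw0 _ fun hc => by have := hc.1; omega
    refine ⟨⟨back, hmem⟩, Subtype.ext (funext fun u => ?_)⟩
    show g back u = w u
    simp only [g]
    split_ifs with hm
    · by_cases hV : Plane.cellP S (i, j) m 0 u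
      · refine hback _ _ ((good_ptP hI i j m _ _).2 ⟨by omega, by rw [← hS]; omega, ?_⟩)
        have := hV.2
        rw [show u + 0 + (i, j) = u + (i, j) by rw [add_zero]] at this
        rw [← hS]
        omega
      · rw [hw0 _ hV]
        refine if_neg fun hg => hV ⟨hm, ?_⟩
        have := ((good_ptP hI i j m u _).1 hg).2.2
        rw [← hS] at this
        rw [show u + 0 + (i, j) = u + (i, j) by rw [add_zero]]
        omega
    · exact (hw0 u fun hc => hm hc.1).symm

/-- the point over `(a, b)` at height `z` -/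
def ptM (a b z : ℤ) : Fin 3 → ℤ := ![a, b, z]

theorem ptM_eq (u : P2) (b : ℕ) :
    zv (e3 u.1 u.2 b) + degM i j m = ptM ((u.1 : ℤ) - i - 1) ((u.2 : ℤ) - j - 1) ((b : ℤ) + m) := by
  rw [zv_e3]; funext l; fin_cases l <;> simp [degM, ptM] <;> ring

theorem ptM_single (a b z : ℤ) :
    ptM a b z + Pi.single 0 1 = ptM (a + 1) b z ∧ ptM a b z + Pi.single 1 1 = ptM a (b + 1) z ∧
      ptM a b z + Pi.single 2 1 = ptM a b (z + 1) := by
  refine ⟨?_, ?_, ?_⟩ <;> funext l <;> fin_cases l <;> simp [ptM]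

include hI in
theorem good_ptM (v : P2) (z : ℤ) :
    Good I (degM i j m) (ptM v.1 v.2 z) ↔
      ((stair hI).f (v + Plane.e12 + (i, j)) : ℤ) + m ≤ z ∧ z < (stair hI).f v := by
  constructor
  · rintro ⟨β, δ, hβ, hδ, h1, h2⟩
    rw [eq_e3 δ] at hδ h1
    rw [eq_e3 β] at hβ h2
    rw [eq_e3 δ] at h2
    rw [zv_e3] at h1 h2
    rw [zv_e3] at h2
    have a0 := congrFun h1 0; have a1 := congrFun h1 1; have a2 := congrFun h1 2
    have b0 := congrFun h2 0; have b1 := congrFun h2 1; have b2 := congrFun h2 2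
    simp [ptM, degM] at a0 a1 a2 b0 b1 b2
    rw [show β 0 = (v + Plane.e12 + (i, j)).1 by simp [Plane.e12]; omega,
      show β 1 = (v + Plane.e12 + (i, j)).2 by simp [Plane.e12]; omega, mem_iff hI] at hβ
    rw [show δ 0 = v.1 by omega, show δ 1 = v.2 by omega, mem_iff hI] at hδ
    omega
  · rintro ⟨h1, h2⟩
    refine ⟨e3 (v + Plane.e12 + (i, j)).1 (v + Plane.e12 + (i, j)).2 (z - m).toNat, e3 v.1 v.2 z.toNat, ?_, ?_, ?_, ?_⟩
    · rw [mem_iff hI]; omega
    · rw [mem_iff hI]; omega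
    · rw [zv_e3]; funext l; fin_cases l <;> simp [ptM] <;> omega
    · rw [zv_e3, zv_e3]; funext l; fin_cases l <;> simp [degM, Plane.e12] <;> omega

theorem good_degM_pt {γ : Fin 3 → ℤ} (h : Good I (degM i j m) γ) :
    ∃ (v : P2) (z : ℤ), γ = ptM v.1 v.2 z := by
  obtain ⟨β, δ, -, -, h1, -⟩ := h
  refine ⟨(δ 0, δ 1), γ 2, ?_⟩
  funext l
  have := congrFun h1 l
  fin_cases l <;> simp [ptM, zv] at * <;> omega

theorem cfun_chainM {h : (Fin 3 → ℤ) → k} (hc : h ∈ cfun I (degM i j m)) (v : P2) (n : ℕ)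
    (hz : Good I (degM i j m) (ptM v.1 v.2 ((stair hI).f (v + Plane.e12 + (i, j)) + m + n : ℕ))) :
    h (ptM v.1 v.2 ((stair hI).f (v + Plane.e12 + (i, j)) + m + n : ℕ)) =
      h (ptM v.1 v.2 ((stair hI).f (v + Plane.e12 + (i, j)) + m : ℕ)) := by
  induction n with
  | zero => rfl
  | succ n ih =>
    obtain ⟨h1, h2⟩ := (good_ptM hI i j m v _).1 hz
    have hb : e3 (v + Plane.e12 + (i, j)).1 (v + Plane.e12 + (i, j)).2
        ((stair hI).f (v + Plane.e12 + (i, j)) + n) ∈ exps I := (mem_iff hI _ _).2 (Nat.le_add_right _ _)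
    have hh := hc.2 _ hb 2
    have e : zv (e3 (v + Plane.e12 + (i, j)).1 (v + Plane.e12 + (i, j)).2
        ((stair hI).f (v + Plane.e12 + (i, j)) + n)) + degM i j m =
          ptM v.1 v.2 ((stair hI).f (v + Plane.e12 + (i, j)) + m + n : ℕ) := by
      rw [ptM_eq]; funext l; fin_cases l <;> simp [ptM, Plane.e12] <;> ring
    rw [e, (ptM_single _ _ _).2.2,
      show (((stair hI).f (v + Plane.e12 + (i, j)) + m + n : ℕ) : ℤ) + 1 =
        (((stair hI).f (v + Plane.e12 + (i, j)) + m + (n + 1) : ℕ) : ℤ) by push_cast; ring] at hh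
    rw [hh hz]
    exact ih ((good_ptM hI i j m v _).2 ⟨by omega, by omega⟩)

/-- `T(I)` in multidegree `(-i-1, -j-1, m)` through the staircase. -/
theorem finrank_tPiece_degM :
    Module.finrank k (tPiece I (degM i j m)) = Module.finrank k (Plane.kerM (stair hI) (i, j) m k) := by
  rw [(pieceEquiv hI (degM i j m)).finrank_eq]
  set S := stair hI with hS
  let up : P2 → P2 := fun v => v + Plane.e12 + (i, j)
  let g : ((Fin 3 → ℤ) → k) → P2 → k := fun h v => h (ptM v.1 v.2 (S.f (up v) + m : ℕ))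
  have hchain : ∀ h ∈ cfun I (degM i j m), ∀ (v : P2) (z : ℤ), Good I (degM i j m) (ptM v.1 v.2 z) →
      h (ptM v.1 v.2 z) = g h v := fun h hh v z hz => by
    obtain ⟨h1, -⟩ := (good_ptM hI i j m v z).1 hz
    obtain ⟨n, rfl⟩ : ∃ n : ℕ, z = ((S.f (up v) + m + n : ℕ) : ℤ) :=
      ⟨(z - (S.f (up v) + m : ℕ)).toNat, by rw [← hS] at h1; simp only [up] at *; omega⟩
    exact cfun_chainM hI i j m hh v n hz
  refine LinearEquiv.finrank_eq (LinearEquiv.ofBijective
    ({ toFun := fun h => ⟨g h.1, fun v hv => ?_, fun v hv => ?_, fun v hv => ?_⟩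
       map_add' := fun a b => rfl
       map_smul' := fun r a => rfl } :
      cfun I (degM i j m) →ₗ[k] Plane.kerM S (i, j) m k) ⟨fun a b hab => ?_, fun w => ?_⟩)
  · refine h.2.1 _ fun hg => hv ?_
    have := ((good_ptM hI i j m v _).1 hg).2
    rw [← hS] at this
    show S.f (v + Plane.e12 + (i, j)) + m < S.f v
    simp only [up] at this
    omega
  · unfold Plane.cellA at hv
    have hz : Good I (degM i j m) (ptM v.1 v.2 (S.f (v + Plane.e1 + (i, j)) + m : ℕ)) := by
      refine (good_ptM hI i j m v _).2 ⟨?_, ?_⟩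
      · have := S.anti (u := v + Plane.e1 + (i, j)) (v := v + Plane.e12 + (i, j))
          (add_le_add (add_le_add le_rfl (by decide)) le_rfl)
        rw [← hS]; omega
      · rw [← hS]; omega
    have hb : e3 (v + Plane.e1 + (i, j)).1 (v + Plane.e1 + (i, j)).2 (S.f (v + Plane.e1 + (i, j))) ∈ exps I :=
      (mem_iff hI _ _).2 le_rfl
    have e : zv (e3 (v + Plane.e1 + (i, j)).1 (v + Plane.e1 + (i, j)).2 (S.f (v + Plane.e1 + (i, j)))) + degM i j m =
        ptM v.1 ((v.2 : ℤ) - 1) (S.f (v + Plane.e1 + (i, j)) + m : ℕ) := by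
      rw [ptM_eq]; funext l; fin_cases l <;> simp [ptM, Plane.e1] <;> ring
    have hh := h.2.2 _ hb 1
    rw [e, (ptM_single _ _ _).2.1, sub_add_cancel] at hh
    rw [← hchain h.1 h.2 v _ hz, hh hz]
    split_ifs with h0
    · refine h.2.1 _ fun hg => ?_
      obtain ⟨v', z', hp⟩ := good_degM_pt i j m hg
      have := congrFun hp 1
      simp [ptM, h0] at this
    · simp only [g, up]
      rw [show ((v.1, v.2 - 1) : P2) + Plane.e12 + (i, j) = v + Plane.e1 + (i, j) by
          ext <;> simp [Plane.e1, Plane.e12] <;> omega]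
      refine congrArg h.1 (funext fun l => ?_)
      fin_cases l <;> simp [ptM] <;> omega
  · unfold Plane.cellA at hv
    have hz : Good I (degM i j m) (ptM v.1 v.2 (S.f (v + Plane.e2 + (i, j)) + m : ℕ)) := by
      refine (good_ptM hI i j m v _).2 ⟨?_, ?_⟩
      · have := S.anti (u := v + Plane.e2 + (i, j)) (v := v + Plane.e12 + (i, j))
          (add_le_add (add_le_add le_rfl (by decide)) le_rfl)
        rw [← hS]; omega
      · rw [← hS]; omega
    have hb : e3 (v + Plane.e2 + (i, j)).1 (v + Plane.e2 + (i, j)).2 (S.f (v + Plane.e2 + (i, j))) ∈ exps I :=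
      (mem_iff hI _ _).2 le_rfl
    have e : zv (e3 (v + Plane.e2 + (i, j)).1 (v + Plane.e2 + (i, j)).2 (S.f (v + Plane.e2 + (i, j)))) + degM i j m =
        ptM ((v.1 : ℤ) - 1) v.2 (S.f (v + Plane.e2 + (i, j)) + m : ℕ) := by
      rw [ptM_eq]; funext l; fin_cases l <;> simp [ptM, Plane.e2] <;> ring
    have hh := h.2.2 _ hb 0
    rw [e, (ptM_single _ _ _).1, sub_add_cancel] at hh
    rw [← hchain h.1 h.2 v _ hz, hh hz]
    split_ifs with h0
    · refine h.2.1 _ fun hg => ?_
      obtain ⟨v', z', hp⟩ := good_degM_pt i j m hg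
      have := congrFun hp 0
      simp [ptM, h0] at this
    · simp only [g, up]
      rw [show ((v.1 - 1, v.2) : P2) + Plane.e12 + (i, j) = v + Plane.e2 + (i, j) by
          ext <;> simp [Plane.e2, Plane.e12] <;> omega]
      refine congrArg h.1 (funext fun l => ?_)
      fin_cases l <;> simp [ptM] <;> omega
  · refine Subtype.ext (funext fun γ => ?_)
    by_cases hγ : Good I (degM i j m) γ
    · obtain ⟨v, z, rfl⟩ := good_degM_pt i j m hγ
      rw [hchain _ a.2 v z hγ, hchain _ b.2 v z hγ]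
      exact congrFun (congrArg Subtype.val hab) v
    · rw [a.2.1 γ hγ, b.2.1 γ hγ]
  · obtain ⟨w, hw0, hw1, hw2⟩ := w
    let back : (Fin 3 → ℤ) → k := fun γ =>
      if Good I (degM i j m) γ then w ((γ 0).toNat, (γ 1).toNat) else 0
    have hback : ∀ (v : P2) z, Good I (degM i j m) (ptM v.1 v.2 z) → back (ptM v.1 v.2 z) = w v := fun v z hz => by
      simp only [back, if_pos hz]
      congr 1
    have hmem : back ∈ cfun I (degM i j m) := by
      refine ⟨fun γ hγ => if_neg hγ, fun β hβ l hg => ?_⟩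
      rw [eq_e3 β] at hβ hg ⊢
      rw [show zv (e3 (β 0) (β 1) (β 2)) + degM i j m =
        ptM ((β 0 : ℤ) - i - 1) ((β 1 : ℤ) - j - 1) ((β 2 : ℤ) + m) from ptM_eq i j m (β 0, β 1) (β 2)] at hg ⊢
      have hb : S.f (β 0, β 1) ≤ β 2 := (mem_iff hI (β 0, β 1) (β 2)).1 hβ
      obtain ⟨p0, p1, p2⟩ := ptM_single ((β 0 : ℤ) - i - 1) ((β 1 : ℤ) - j - 1) ((β 2 : ℤ) + m)
      obtain ⟨v, z, hp⟩ := good_degM_pt i j m hg
      have q0 := congrFun hp 0; have q1 := congrFun hp 1; have q2 := congrFun hp 2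
      rw [hp] at hg ⊢
      rw [hback v z hg]
      obtain ⟨g1, g2⟩ := (good_ptM hI i j m v z).1 hg
      rw [← hS] at g1 g2
      fin_cases l
      · simp [ptM] at q0 q1 q2
        have hu : v + Plane.e2 + (i, j) = (β 0, β 1) := by ext <;> simp [Plane.e2] <;> omega
        rw [hw2 v (show S.f (v + Plane.e2 + (i, j)) + m < S.f v by rw [hu]; omega)]
        split_ifs with h0
        · refine (if_neg fun hg' => ?_).symm
          obtain ⟨v', z', hp'⟩ := good_degM_pt i j m hg'
          have := congrFun hp' 0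
          simp [ptM] at this
          omega
        · have e : ptM ((β 0 : ℤ) - i - 1) ((β 1 : ℤ) - j - 1) ((β 2 : ℤ) + m) =
              ptM ((v.1 - 1 : ℕ) : ℤ) (v.2 : ℤ) ((β 2 : ℤ) + m) := by
            funext l; fin_cases l <;> simp [ptM] <;> omega
          rw [e]
          refine (hback (v.1 - 1, v.2) _ ((good_ptM hI i j m (v.1 - 1, v.2) _).2 ⟨?_, ?_⟩)).symm
          · rw [← hS, show ((v.1 - 1, v.2) : P2) + Plane.e12 + (i, j) = (β 0, β 1) by
              rw [← hu]; ext <;> simp [Plane.e12, Plane.e2] <;> omega]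
            omega
          · have := S.anti (u := ((v.1 - 1, v.2) : P2)) (v := v) ⟨by simp, le_rfl⟩
            rw [← hS]; omega
      · simp [ptM] at q0 q1 q2
        have hu : v + Plane.e1 + (i, j) = (β 0, β 1) := by ext <;> simp [Plane.e1] <;> omega
        rw [hw1 v (show S.f (v + Plane.e1 + (i, j)) + m < S.f v by rw [hu]; omega)]
        split_ifs with h0
        · refine (if_neg fun hg' => ?_).symm
          obtain ⟨v', z', hp'⟩ := good_degM_pt i j m hg'
          have := congrFun hp' 1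
          simp [ptM] at this
          omega
        · have e : ptM ((β 0 : ℤ) - i - 1) ((β 1 : ℤ) - j - 1) ((β 2 : ℤ) + m) =
              ptM (v.1 : ℤ) ((v.2 - 1 : ℕ) : ℤ) ((β 2 : ℤ) + m) := by
            funext l; fin_cases l <;> simp [ptM] <;> omega
          rw [e]
          refine (hback (v.1, v.2 - 1) _ ((good_ptM hI i j m (v.1, v.2 - 1) _).2 ⟨?_, ?_⟩)).symm
          · rw [← hS, show ((v.1, v.2 - 1) : P2) + Plane.e12 + (i, j) = (β 0, β 1) by
              rw [← hu]; ext <;> simp [Plane.e12, Plane.e1] <;> omega]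
            omega
          · have := S.anti (u := ((v.1, v.2 - 1) : P2)) (v := v) ⟨le_rfl, by simp⟩
            rw [← hS]; omega
      · simp [ptM] at q0 q1 q2
        have e : ptM ((β 0 : ℤ) - i - 1) ((β 1 : ℤ) - j - 1) ((β 2 : ℤ) + m) =
            ptM (v.1 : ℤ) (v.2 : ℤ) ((β 2 : ℤ) + m) := by
          funext l; fin_cases l <;> simp [ptM] <;> omega
        have hu : v + Plane.e12 + (i, j) = (β 0, β 1) := by ext <;> simp [Plane.e12] <;> omega
        rw [e]
        refine (hback v _ ((good_ptM hI i j m v _).2 ⟨?_, ?_⟩)).symm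
        · rw [← hS, hu]; omega
        · rw [← hS]; omega
    refine ⟨⟨back, hmem⟩, Subtype.ext (funext fun v => ?_)⟩
    show g back v = w v
    by_cases hM : Plane.cellA S (i, j) m Plane.e12 v
    · unfold Plane.cellA at hM
      refine hback v _ ((good_ptM hI i j m v _).2 ⟨?_, ?_⟩)
      · rw [← hS]; simp only [up]; omega
      · rw [← hS]; simp only [up]; omega
    · rw [hw0 _ hM]
      refine if_neg fun hg => hM ?_
      have := ((good_ptM hI i j m v _).1 hg).2
      rw [← hS] at this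
      simp only [up] at this
      show S.f (v + Plane.e12 + (i, j)) + m < S.f v
      omega

omit [Module.Finite k (MvPolynomial (Fin 3) k ⧸ I)] in
theorem count_range {a b M : ℕ} (hba : b ≤ a) (haM : a ≤ M) :
    (Finset.range M).sum (fun m => if m < a ∧ a ≤ b + m then 1 else 0) = b := by
  rw [← Finset.card_filter]
  rw [show (Finset.range M).filter (fun m => m < a ∧ a ≤ b + m) = Finset.Ico (a - b) a by
    ext x; simp only [Finset.mem_filter, Finset.mem_range, Finset.mem_Ico]; omega, Nat.card_Ico]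
  omega

theorem sum_cnt (S : Stair) (α : P2) (M : ℕ) (hM : S.f 0 ≤ M) :
    ∑ m ∈ Finset.range M, Plane.cnt S α m 0 + ∑ m ∈ Finset.range M, Plane.cnt S α m Plane.e12 =
      S.f α + (∑ m ∈ Finset.range M, Plane.cnt S α m Plane.e1 + ∑ m ∈ Finset.range M, Plane.cnt S α m Plane.e2) := by
  have key : ∀ e : P2, ∑ m ∈ Finset.range M, Plane.cnt S α m e =
      ∑ u ∈ Finset.range S.N ×ˢ Finset.range S.N, S.f (u + e + α) := fun e => by
    unfold Plane.cnt
    simp only [Finset.card_filter]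
    rw [Finset.sum_comm]
    refine Finset.sum_congr rfl fun u _ => ?_
    unfold Plane.cellP
    refine Eq.trans (Finset.sum_congr rfl fun m _ => ?_)
      (count_range (M := M) (S.anti (u := u) (v := u + e + α) (by rw [add_assoc]; exact le_self_add)) ((S.anti bot_le).trans hM))
    split_ifs <;> rfl
  rw [key, key, key, key]
  have tele : ∀ (F : ℕ → ℕ) (N : ℕ), F N = 0 →
      ∑ a ∈ Finset.range N, F a = F 0 + ∑ a ∈ Finset.range N, F (a + 1) := fun F N h => by
    have := Finset.sum_range_succ' F N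
    rw [Finset.sum_range_succ, h, add_zero] at this
    rw [this]; exact add_comm _ _
  have z1 : ∀ u : P2, S.N ≤ u.1 → S.f u = 0 := fun u h => by
    by_contra hne; have := (S.supp u hne).1; omega
  have z2 : ∀ u : P2, S.N ≤ u.2 → S.f u = 0 := fun u h => by
    by_contra hne; have := (S.supp u hne).2; omega
  simp only [Finset.sum_product]
  have r1 : ∀ d : ℕ, ∑ b ∈ Finset.range S.N, S.f ((0, b) + (0, d) + α) +
      ∑ a ∈ Finset.range S.N, ∑ b ∈ Finset.range S.N, S.f ((a, b) + (1, d) + α) =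
      ∑ a ∈ Finset.range S.N, ∑ b ∈ Finset.range S.N, S.f ((a, b) + (0, d) + α) := fun d => by
    rw [tele (fun a => ∑ b ∈ Finset.range S.N, S.f ((a, b) + (0, d) + α)) S.N
      (Finset.sum_eq_zero fun b _ => z1 _ (by simp))]
    simp only [Prod.mk_add_mk, add_zero]
  have r0 : ∑ b ∈ Finset.range S.N, S.f ((0, b) + (0, 0) + α) =
      S.f α + ∑ b ∈ Finset.range S.N, S.f ((0, b) + (0, 1) + α) := by
    rw [tele (fun b => S.f ((0, b) + (0, 0) + α)) S.N (z2 _ (by simp))]
    have e0 : ((0, 0) : P2) + (0, 0) + α = α := by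
      rw [show ((0, 0) : P2) = 0 from rfl, add_zero, zero_add]
    simp only [Prod.mk_add_mk, add_zero] at e0 ⊢
    rw [e0]
  have h0 := r1 0
  have h1 := r1 1
  simp only [Plane.e1, Plane.e2, Plane.e12, show (0 : P2) = (0, 0) from rfl] at *
  omega

include hI in
/-- The duality: `dim T_(i,j,*) = stairZ I i j + dim T_(-i-1,-j-1,*)`. -/
theorem finrank_fix_xy :
    Module.finrank k ↥(⨆ α : {α : Fin 3 → ℤ // α 0 = (i : ℤ) ∧ α 1 = (j : ℤ)}, tPiece I α.1) =
      stairZ I i j +
        Module.finrank k ↥(⨆ α : {α : Fin 3 → ℤ // α 0 = -(i : ℤ) - 1 ∧ α 1 = -(j : ℤ) - 1}, tPiece I α.1) := by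
  set S := stair hI with hS
  have hS0 : ∀ u, S.f u ≤ S.f 0 := fun u => S.anti bot_le
  have eP : ∀ α : Fin 3 → ℤ, α 0 = (i : ℤ) → α 1 = (j : ℤ) → α 2 < 0 → α = degP i j (-α 2 - 1).toNat := by
    intro α h0 h1 h2; funext l; fin_cases l <;> simp [degP, h0, h1] <;> omega
  have eM : ∀ α : Fin 3 → ℤ, α 0 = -(i : ℤ) - 1 → α 1 = -(j : ℤ) - 1 → 0 ≤ α 2 → α = degM i j (α 2).toNat := by
    intro α h0 h1 h2; funext l; fin_cases l <;> simp [degM, h0, h1] <;> omega
  rw [finrank_iSup_tPiece hI _ ((Finset.range (S.f 0)).image (degP i j)) ?_ ?_,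
    finrank_iSup_tPiece hI _ ((Finset.range (S.f 0)).image (degM i j)) ?_ ?_, Finset.sum_image ?_, Finset.sum_image ?_,
    Finset.sum_congr rfl fun m _ => finrank_tPiece_degP hI i j m,
    Finset.sum_congr rfl fun m _ => finrank_tPiece_degM hI i j m]
  · have hsum := Finset.sum_congr (rfl : Finset.range (S.f 0) = Finset.range (S.f 0))
      fun m _ => Plane.finrank_kerV (k := k) S (i, j) m
    simp only [Finset.sum_add_distrib] at hsum
    have := sum_cnt S (i, j) (S.f 0) le_rfl
    rw [← hS, show stairZ I i j = S.f (i, j) from rfl]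
    omega
  · intro a _ b _ h
    have := congrFun h 2
    simpa [degM] using this
  · intro a _ b _ h
    have := congrFun h 2
    simpa [degP] using this
  · intro α hα
    obtain ⟨m, -, rfl⟩ := Finset.mem_image.1 hα
    simp [degM]
  · intro α ⟨h0, h1⟩ hn
    refine tPiece_le_bot_of hI fun φ _ β δ hβ hδ h => ?_
    by_cases hneg : α 2 < 0
    · refine cq_eq_zero_of_descend hI φ (show (1 : Fin 3) ≠ 0 by decide) (by omega)
        (fun β _ => exists_add_single_mem hI _ 1) (fun β δ _ _ h hh => exps_of_le hh fun l => ?_) hβ hδ h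
      have := congrFun h l
      simp only [zv, Pi.add_apply, Finsupp.add_apply, Finsupp.tsub_apply, Finsupp.single_apply] at *
      fin_cases l <;> simp at * <;> omega
    · rw [eM α h0 h1 (not_lt.1 hneg)] at h
      have hg : Good I (degM i j (α 2).toNat) (zv δ) := ⟨β, δ, hβ, hδ, rfl, h⟩
      obtain ⟨v, z, hz⟩ := good_degM_pt i j _ hg
      rw [hz] at hg
      obtain ⟨g1, g2⟩ := (good_ptM hI i j _ v z).1 hg
      refine absurd (Finset.mem_image.2 ⟨(α 2).toNat, Finset.mem_range.2 ?_, (eM α h0 h1 (not_lt.1 hneg)).symm⟩) hn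
      have := hS0 v
      rw [← hS] at g1 g2
      omega
  · intro α hα
    obtain ⟨m, -, rfl⟩ := Finset.mem_image.1 hα
    simp [degP]
  · intro α ⟨h0, h1⟩ hn
    refine tPiece_le_bot_of hI fun φ hφ β δ hβ hδ h => ?_
    by_cases hneg : α 2 < 0
    · by_cases hm : (-α 2 - 1).toNat < S.f 0
      · exact absurd (Finset.mem_image.2 ⟨_, Finset.mem_range.2 hm, (eP α h0 h1 hneg).symm⟩) hn
      · rw [eP α h0 h1 hneg] at h hφ
        have hz := (toFun_apply hI φ hβ hδ h).symm
        obtain ⟨u, z, hp⟩ := good_degP_pt i j _ ⟨β, δ, hβ, hδ, rfl, h⟩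
        have hg : Good I (degP i j (-α 2 - 1).toNat) (ptP i j u z) := hp ▸ ⟨β, δ, hβ, hδ, rfl, h⟩
        obtain ⟨n, rfl⟩ := Int.eq_ofNat_of_zero_le ((good_ptP hI i j _ u z).1 hg).1
        rw [hz, hp, cfun_chainP hI i j _ (toFun_mem hI _ φ) u n hg, if_neg]
        have := hS0 u
        rw [← hS]
        omega
    · refine absurd (exps_of_le hβ fun l => ?_) hδ
      have := congrFun h l
      simp only [zv, Pi.add_apply] at this
      fin_cases l <;> simp at * <;> omega

end Groth.Agent.H25Hilb
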