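import Groth.Agent.H25Hilb.Basic

/-! # Powers of the ideal of variables -/

open MvPolynomial W4c1hilbpn

namespace Groth.Agent.H25Hilb

variable {σ : Type*} {k : Type*} [Field k]

theorem mem_powVars_iff (r : ℕ) (p : MvPolynomial σ k) :
    p ∈ (Ideal.span (Set.range (MvPolynomial.X : σ → MvPolynomial σ k))) ^ r ↔ ∀ β ∈ p.support, r ≤ Finsupp.degree β :=
  MvPolynomial.mem_pow_idealOfVars_iff r p

theorem mem_exps_powVars (r : ℕ) (β : σ →₀ ℕ) :
    β ∈ exps ((Ideal.span (Set.range (MvPolynomial.X : σ → MvPolynomial σ k))) ^ r) ↔ r ≤ Finsupp.degree β := by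
  classical
  refine Iff.trans (mem_powVars_iff r (monomial β (1 : k))) ?_
  rw [support_monomial, if_neg one_ne_zero]
  simp

theorem isMonomial_powVars (r : ℕ) :
    IsMonomial ((Ideal.span (Set.range (MvPolynomial.X : σ → MvPolynomial σ k))) ^ r) :=
  fun p hp β hβ => (mem_exps_powVars r β).2 ((mem_powVars_iff r p).1 hp β hβ)

theorem card_degree_eq [Fintype σ] [DecidableEq σ] (m : ℕ) :
    Nat.card {e : σ →₀ ℕ // Finsupp.degree e = m} = (Fintype.card σ).multichoose m := by
  rw [← Sym.card_sym_eq_multichoose σ m, ← Nat.card_eq_fintype_card]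
  refine Nat.card_congr ?_
  refine (Equiv.subtypeEquivRight fun e => ?_).trans (Sym.equivNatSum σ m).symm
  rfl

variable [Fintype σ] [DecidableEq σ]

theorem sum_zv (δ : σ →₀ ℕ) : ∑ i, zv δ i = ((Finsupp.degree δ : ℕ) : ℤ) := by
  rw [Finsupp.degree_eq_sum, Nat.cast_sum]; rfl

theorem finrank_tPiece_powVars [Nontrivial σ] (r : ℕ) (α : σ → ℤ) :
    Module.finrank k ↥(tPiece ((Ideal.span (Set.range (MvPolynomial.X : σ → MvPolynomial σ k))) ^ r) α) =
      if (∑ i, α i = -1 ∧ ∑ i, (-α i).toNat ≤ r)
        then Nat.choose (Fintype.card σ + r - (∑ i, (-α i).toNat) - 1) (Fintype.card σ - 1) else 0 := by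
  classical
  set I := (Ideal.span (Set.range (MvPolynomial.X : σ → MvPolynomial σ k))) ^ r with hIdef
  have hI : IsMonomial I := isMonomial_powVars r
  have hexp : ∀ β, β ∈ exps I ↔ r ≤ Finsupp.degree β := mem_exps_powVars r
  have hdeg : ∀ {β δ : σ →₀ ℕ}, zv δ = zv β + α → ((Finsupp.degree δ : ℕ) : ℤ) = Finsupp.degree β + ∑ i, α i := by
    intro β δ h
    rw [← sum_zv, ← sum_zv, ← Finset.sum_add_distrib]
    exact Finset.sum_congr rfl fun i _ => congrFun h i
  by_cases h1 : ∑ i, α i = -1
  · have hgood : ∀ γ, Good I α γ ↔ ∃ δ : σ →₀ ℕ, γ = zv δ ∧ Finsupp.degree δ + 1 = r ∧ ∀ i, α i ≤ (δ i : ℤ) := by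
      intro γ
      constructor
      · rintro ⟨β, δ, hβ, hδ, rfl, h⟩
        have := hdeg h
        rw [hexp] at hβ hδ
        refine ⟨δ, rfl, by omega, fun i => ?_⟩
        have := congrFun h i
        simp only [zv, Pi.add_apply] at this
        omega
      · rintro ⟨δ, rfl, hr, hle⟩
        have hh : zv δ = zv (Finsupp.equivFunOnFinite.symm fun i => ((δ i : ℤ) - α i).toNat) + α := by
          funext i
          have := hle i
          simp [zv]; omega
        refine ⟨_, δ, ?_, ?_, rfl, hh⟩
        · have := hdeg hh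
          rw [hexp]; omega
        · rw [hexp]; omega
    let G := {γ : σ → ℤ // Good I α γ}
    have e : ↥(cfun I α) ≃ₗ[k] (G → k) := LinearEquiv.ofBijective
      (LinearMap.pi (fun γ : G => (LinearMap.proj γ.1).comp (cfun I α).subtype)) ⟨fun c d h => by
        refine Subtype.ext (funext fun γ => ?_)
        by_cases hγ : Good I α γ
        · exact congrFun h ⟨γ, hγ⟩
        · rw [c.2.1 γ hγ, d.2.1 γ hγ], fun f => ⟨⟨fun γ => if h : Good I α γ then f ⟨γ, h⟩ else 0,
        fun γ h => dif_neg h, fun β hβ i hg => absurd hg ?_⟩, funext fun γ => dif_pos γ.2⟩⟩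
    · let a : σ →₀ ℕ := Finsupp.equivFunOnFinite.symm fun i => (α i).toNat
      have ha : ((Finsupp.degree a : ℕ) : ℤ) = (∑ i, (-α i).toNat : ℕ) - 1 := by
        have hh : ∑ i, α i = ∑ i, (((α i).toNat : ℤ) - ((-α i).toNat : ℤ)) :=
          Finset.sum_congr rfl fun i _ => by omega
        rw [Finset.sum_sub_distrib, h1] at hh
        rw [Finsupp.degree_eq_sum, Nat.cast_sum, Nat.cast_sum]
        simp only [a, Finsupp.coe_equivFunOnFinite_symm]
        omega
      have hP : 1 ≤ ∑ i, (-α i).toNat := by omega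
      by_cases h2 : ∑ i, (-α i).toNat ≤ r
      · rw [if_pos ⟨h1, h2⟩, (pieceEquiv hI α).finrank_eq, e.finrank_eq]
        let f : {x : σ →₀ ℕ // Finsupp.degree x = r - ∑ i, (-α i).toNat} ≃ G :=
          Equiv.ofBijective (fun x => ⟨zv (a + x.1), (hgood _).2 ⟨_, rfl, by rw [map_add, x.2]; omega,
            fun i => by simp [a]; omega⟩⟩) ⟨fun x y h => Subtype.ext (add_left_cancel (zv_inj (congrArg Subtype.val h))), fun γ => by
            obtain ⟨δ, hγ, hr, hle⟩ := (hgood _).1 γ.2
            have hale : a ≤ δ := fun i => by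
              have := hle i
              simp [a]; omega
            obtain ⟨x, rfl⟩ := le_iff_exists_add.1 hale
            exact ⟨⟨x, by rw [map_add] at hr; omega⟩, Subtype.ext hγ.symm⟩⟩
        haveI : Finite {x : σ →₀ ℕ // Finsupp.degree x = r - ∑ i, (-α i).toNat} :=
          Finite.of_equiv _ ((Equiv.subtypeEquivRight fun _ => Iff.rfl).trans
            (Sym.equivNatSum σ (r - ∑ i, (-α i).toNat)).symm).symm
        haveI : Finite G := Finite.of_equiv _ f
        haveI := Fintype.ofFinite G
        have hn := Fintype.one_lt_card (α := σ)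
        rw [Module.finrank_fintype_fun_eq_card, ← Nat.card_eq_fintype_card, ← Nat.card_congr f, card_degree_eq,
          Nat.multichoose_eq, show Fintype.card σ + (r - ∑ i, (-α i).toNat) - 1 =
            Fintype.card σ + r - (∑ i, (-α i).toNat) - 1 by omega, ← Nat.choose_symm (by omega)]
        congr 1
        omega
      · rw [if_neg (fun h => h2 h.2)]
        rw [tPiece_le_bot_of hI fun φ _ β δ hβ hδ h => absurd ((hgood _).1 ⟨β, δ, hβ, hδ, rfl, h⟩) ?_]
        · exact finrank_bot _ _
        rintro ⟨δ', -, hr, hle⟩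
        have hale : a ≤ δ' := fun i => by
          have := hle i
          simp [a]; omega
        have := Finsupp.degree_mono hale
        omega
    · rintro hβ'
      obtain ⟨δ, h, hr, -⟩ := (hgood _).1 hβ'
      rw [hexp] at hβ
      have h' : zv δ = zv (β + Finsupp.single i 1) + α := by
        rw [zv_add_single, ← h]; abel
      have := hdeg h'
      rw [map_add, Finsupp.degree_single] at this
      omega
  · rw [if_neg (fun h => h1 h.1), tPiece_le_bot_of hI (α := α) ?_]
    · exact finrank_bot _ _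
    intro φ _ β δ hβ hδ h
    have hd := hdeg h
    have hβ' := (hexp β).1 hβ
    have hδ' : ¬ r ≤ Finsupp.degree δ := fun hh => hδ ((hexp δ).2 hh)
    obtain ⟨i, hi⟩ : ∃ i, α i < 0 := by
      by_contra hh
      push_neg at hh
      have := Finset.sum_nonneg fun i (_ : i ∈ Finset.univ) => hh i
      omega
    obtain ⟨j, hj⟩ := exists_ne i
    refine cq_eq_zero_of_descend hI φ hj hi (fun β _ => ⟨r, (hexp _).2 ?_⟩) (fun β δ hβ _ h hh => (hexp _).2 ?_) hβ hδ h
    · rw [map_add, Finsupp.degree_single]; omega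
    · rw [hexp, map_add, Finsupp.degree_single] at hh
      rw [hexp] at hβ
      have := hdeg h
      have hle : Finsupp.single i 1 ≤ β := Finsupp.single_le_iff.2 (by
        have := congrFun h i
        simp only [zv, Pi.add_apply] at this
        omega)
      have e := congrArg Finsupp.degree (tsub_add_cancel_of_le hle)
      rw [map_add, Finsupp.degree_single] at e
      omega

end Groth.Agent.H25Hilb
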