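import Groth.Agent.H25Hilb.Basic

/-! # Bounded components of the region `(Ĩ + α) ∖ Ĩ` -/

open MvPolynomial W4c1hilbpn
open scoped Classical

namespace Groth.Agent.H25Hilb

variable {σ : Type*} {k : Type*} [Field k] {I : Ideal (MvPolynomial σ k)} [Fintype σ] [DecidableEq σ]
  {α : σ → ℤ}

theorem good_of_region {γ : σ → ℤ} (h : γ ∈ region I α) (h0 : ∀ i, 0 ≤ γ i) : Good I α γ := by
  obtain ⟨⟨β, hβ, rfl⟩, hn⟩ := h
  exact ⟨β, Finsupp.equivFunOnFinite.symm fun i => ((β i : ℤ) + α i).toNat, hβ, fun hh => hn ⟨h0, hh⟩,
    by funext i; have := h0 i; simp [zv]; omega, by funext i; have := h0 i; simp [zv]; omega⟩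

theorem mem_region_of_good {γ : σ → ℤ} (h : Good I α γ) : γ ∈ region I α ∧ ∀ i, 0 ≤ γ i := by
  obtain ⟨β, δ, hβ, hδ, rfl, h⟩ := h
  refine ⟨⟨⟨β, hβ, h⟩, fun hh => hδ ?_⟩, fun i => by simp [zv]⟩
  have : (Finsupp.equivFunOnFinite.symm fun i => (zv δ i).toNat) = δ := Finsupp.ext fun i => by simp [zv]
  exact this ▸ hh.2

theorem exists_single_of_adj {a b : σ → ℤ} (h : (stepGraph σ).Adj a b) :
    ∃ i, b = a + Pi.single i 1 ∨ a = b + Pi.single i 1 := by
  have hs : ∑ i, |a i - b i| = 1 := by
    rcases (SimpleGraph.fromRel_adj _ a b).1 h with ⟨-, h | h⟩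
    · exact h
    · simpa [abs_sub_comm] using h
  obtain ⟨i, hi⟩ : ∃ i, a i - b i ≠ 0 := by
    by_contra hh
    push_neg at hh
    simp [hh] at hs
  have hsplit := Finset.add_sum_erase Finset.univ (fun i => |a i - b i|) (Finset.mem_univ i)
  have hpos : 1 ≤ |a i - b i| := Int.one_le_abs hi
  have hnn := Finset.sum_nonneg fun l (_ : l ∈ Finset.univ.erase i) => abs_nonneg (a l - b l)
  have hz : ∀ l, l ≠ i → a l = b l := fun l hl => by
    have := Finset.single_le_sum (f := fun l => |a l - b l|) (fun _ _ => abs_nonneg _)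
      (Finset.mem_erase.2 ⟨hl, Finset.mem_univ l⟩)
    have h2 : |a l - b l| = 0 := le_antisymm (by omega) (abs_nonneg _)
    have := abs_eq_zero.1 h2
    omega
  have h1 : |a i - b i| = 1 := by omega
  refine ⟨i, ?_⟩
  rcases (abs_eq (zero_le_one' ℤ)).1 h1 with h | h
  · refine Or.inr (funext fun l => ?_)
    rcases eq_or_ne l i with rfl | hl
    · simp; omega
    · simp [Pi.single_eq_of_ne hl, hz l hl]
  · refine Or.inl (funext fun l => ?_)
    rcases eq_or_ne l i with rfl | hl
    · simp; omega
    · simp [Pi.single_eq_of_ne hl, hz l hl]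

theorem adj_add_single (a : σ → ℤ) (i : σ) : (stepGraph σ).Adj a (a + Pi.single i 1) := by
  refine (SimpleGraph.fromRel_adj _ _ _).2 ⟨fun h => by simpa using congrFun h i, Or.inl ?_⟩
  simp [Pi.single_apply, apply_ite abs]

theorem cfun_eq_of_reachable {c : (σ → ℤ) → k} (hc : c ∈ cfun I α) {a b : region I α}
    (h : ((stepGraph σ).induce (region I α)).Reachable a b) : c a.1 = c b.1 := by
  have step : ∀ (a b : σ → ℤ), a ∈ region I α → b ∈ region I α → ∀ i, b = a + Pi.single i 1 → c a = c b := by
    intro a b ha hb i hab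
    subst hab
    by_cases hg : Good I α (a + Pi.single i 1)
    · obtain ⟨β, hβ, rfl⟩ := ha.1
      exact (hc.2 β hβ i hg).symm
    · rw [hc.1 _ hg, hc.1]
      intro hga
      refine hg (good_of_region hb fun l => ?_)
      have := (mem_region_of_good hga).2 l
      simp only [Pi.add_apply, Pi.single_apply]
      split_ifs <;> omega
  obtain ⟨w⟩ := h
  induction w with
  | nil => rfl
  | @cons u v w huv _ ih =>
    rw [← ih]
    obtain ⟨i, h | h⟩ := exists_single_of_adj huv
    · exact step _ _ u.2 v.2 i h
    · exact (step _ _ v.2 u.2 i h).symm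

theorem nonneg_of_finite_supp [Nontrivial σ] {K : ((stepGraph σ).induce (region I α)).ConnectedComponent}
    (hK : K.supp.Finite) {γ : region I α} (hγ : γ ∈ K.supp) : ∀ i, 0 ≤ γ.1 i := by
  intro i
  by_contra hi
  push_neg at hi
  obtain ⟨j, hj⟩ := exists_ne i
  have hmem : ∀ t : ℕ, γ.1 + Pi.single j (t : ℤ) ∈ region I α := fun t => by
    obtain ⟨β, hβ, h⟩ := γ.2.1
    refine ⟨⟨β + Finsupp.single j t, exps_add hβ _, funext fun l => ?_⟩, fun hh => ?_⟩
    · rw [Pi.add_apply, congrFun h l, Finsupp.add_apply, Pi.single_apply, Finsupp.single_apply]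
      rcases eq_or_ne l j with rfl | hl
      · simp; ring
      · simp [hl, hl.symm]
    · have := hh.1 i
      rw [Pi.add_apply, Pi.single_eq_of_ne hj.symm] at this
      omega
  have hsupp : ∀ t : ℕ, (⟨_, hmem t⟩ : region I α) ∈ K.supp := fun t => by
    induction t with
    | zero =>
      have : (⟨_, hmem 0⟩ : region I α) = γ := Subtype.ext (by simp)
      rw [this]; exact hγ
    | succ t ih =>
      refine K.mem_supp_of_adj_mem_supp ih ?_
      show (stepGraph σ).Adj (γ.1 + Pi.single j (t : ℤ)) (γ.1 + Pi.single j ((t + 1 : ℕ) : ℤ))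
      rw [Nat.cast_succ, Pi.single_add, ← add_assoc]
      exact adj_add_single _ _
  refine Set.infinite_of_injective_forall_mem (f := fun t : ℕ => (⟨_, hmem t⟩ : region I α)) ?_ hsupp hK
  intro s t h
  have := congrFun (congrArg Subtype.val h) j
  simpa using this

theorem finite_finComp [Nontrivial σ] (hI : IsMonomial I) [Module.Finite k (MvPolynomial σ k ⧸ I)] :
    Finite {K : ((stepGraph σ).induce (region I α)).ConnectedComponent // K.supp.Finite} := by
  have := finite_std hI
  choose r hr using fun K : {K : ((stepGraph σ).induce (region I α)).ConnectedComponent // K.supp.Finite} =>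
    K.1.nonempty_supp
  refine Finite.of_injective (fun K => (⟨Finsupp.equivFunOnFinite.symm fun i => ((r K).1 i).toNat,
    fun hh => (r K).2.2 ⟨nonneg_of_finite_supp K.2 (hr K), hh⟩⟩ : {δ : σ →₀ ℕ // δ ∉ exps I})) ?_
  intro K L h
  have e : r K = r L := Subtype.ext (funext fun i => by
    have := DFunLike.congr_fun (congrArg Subtype.val h) i
    have := nonneg_of_finite_supp K.2 (hr K) i
    have := nonneg_of_finite_supp L.2 (hr L) i
    simp at *
    omega)
  exact Subtype.ext ((hr K).symm.trans ((congrArg _ e).trans (hr L)))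

/-- Functions on the bounded components compute `T(I)_α`. -/
theorem finrank_cfun [Nontrivial σ] (hI : IsMonomial I) [Module.Finite k (MvPolynomial σ k ⧸ I)] :
    Module.finrank k ↥(cfun I α) = nBddComp I α := by
  have := finite_finComp (α := α) hI
  let G := (stepGraph σ).induce (region I α)
  choose r hr using fun K : {K : G.ConnectedComponent // K.supp.Finite} => K.1.nonempty_supp
  let e : ↥(cfun I α) ≃ₗ[k] ({K : G.ConnectedComponent // K.supp.Finite} → k) := LinearEquiv.ofBijective
    (LinearMap.pi fun K => (LinearMap.proj (r K).1).comp (cfun I α).subtype) ⟨fun c d h => by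
      refine Subtype.ext (funext fun γ => ?_)
      by_cases hγ : Good I α γ
      · let g : region I α := ⟨γ, (mem_region_of_good hγ).1⟩
        by_cases hfin : (G.connectedComponentMk g).supp.Finite
        · have hreach : G.Reachable g (r ⟨_, hfin⟩) :=
            (SimpleGraph.ConnectedComponent.eq.1 (hr ⟨_, hfin⟩)).symm
          have hh := congrFun h ⟨_, hfin⟩
          exact (cfun_eq_of_reachable c.2 hreach).trans (hh.trans (cfun_eq_of_reachable d.2 hreach).symm)
        · obtain ⟨v, hv, hneg⟩ : ∃ v ∈ (G.connectedComponentMk g).supp, ∃ i, v.1 i < 0 := by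
            by_contra hh
            push_neg at hh
            have := finite_std hI
            refine hfin (Set.Finite.of_injOn (f := fun v : region I α => Finsupp.equivFunOnFinite.symm fun i => (v.1 i).toNat)
              (t := {δ | δ ∉ exps I}) (fun v hv hm => v.2.2 ⟨hh v hv, hm⟩) (fun v hv w hw e => Subtype.ext (funext fun i => ?_))
              (Set.finite_coe_iff.1 (finite_std hI)))
            have := DFunLike.congr_fun e i
            have := hh v hv i
            have := hh w hw i
            simp at *
            omega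
          have hreach : G.Reachable g v := (SimpleGraph.ConnectedComponent.eq.1 hv).symm
          have hnv : ¬ Good I α v.1 := fun hg => by
            obtain ⟨i, hi⟩ := hneg
            exact absurd ((mem_region_of_good hg).2 i) (not_le.2 hi)
          exact (cfun_eq_of_reachable c.2 hreach).trans (((c.2.1 _ hnv).trans (d.2.1 _ hnv).symm).trans
            (cfun_eq_of_reachable d.2 hreach).symm)
      · rw [c.2.1 γ hγ, d.2.1 γ hγ], fun f => by
      refine ⟨⟨fun γ => if h : γ ∈ region I α then
        (if hf : (G.connectedComponentMk ⟨γ, h⟩).supp.Finite then f ⟨_, hf⟩ else 0) else 0, ?_, ?_⟩, ?_⟩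
      · intro γ hγ
        dsimp only
        split_ifs with h hf
        · exact absurd (good_of_region h (nonneg_of_finite_supp hf (SimpleGraph.ConnectedComponent.connectedComponentMk_mem))) hγ
        · rfl
        · rfl
      · intro β hβ i hg
        have h' := (mem_region_of_good hg).1
        have h0 : zv β + α ∈ region I α := by
          refine ⟨⟨β, hβ, rfl⟩, fun hh => h'.2 ⟨(mem_region_of_good hg).2, exps_of_le hh.2 fun l => ?_⟩⟩
          simp [Pi.single_apply]
          split_ifs <;> omega
        have e : G.connectedComponentMk ⟨_, h'⟩ = G.connectedComponentMk ⟨_, h0⟩ :=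
          SimpleGraph.ConnectedComponent.sound (SimpleGraph.Adj.reachable
            (show G.Adj ⟨_, h0⟩ ⟨_, h'⟩ from adj_add_single _ i)).symm
        simp only [dif_pos h', dif_pos h0, e]
      · funext K
        have e : G.connectedComponentMk (r K) = K.1 := hr K
        show (if h : (r K).1 ∈ region I α then
          (if hf : (G.connectedComponentMk ⟨(r K).1, h⟩).supp.Finite then f ⟨_, hf⟩ else 0) else 0) = f K
        rw [dif_pos (r K).2, dif_pos (by rw [Subtype.coe_eta, e]; exact K.2)]
        exact congrArg f (Subtype.ext e)⟩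
  haveI := Fintype.ofFinite {K : G.ConnectedComponent // K.supp.Finite}
  rw [e.finrank_eq, Module.finrank_fintype_fun_eq_card, ← Nat.card_eq_fintype_card]
  rfl

end Groth.Agent.H25Hilb
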