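import Groth.Agent.H25Hilb.Duality

/-! # Dimensions of the pieces of given sign pattern in three variables -/

open MvPolynomial W4c1hilbpn
open scoped Classical

namespace Groth.Agent.H25Hilb

variable {k : Type*} [Field k] {I : Ideal (MvPolynomial (Fin 3) k)}

section perm

variable {σ : Type*} [Fintype σ] [DecidableEq σ] {J : Ideal (MvPolynomial σ k)}

/-- the ideal with the variables renamed -/
noncomputable def permI (J : Ideal (MvPolynomial σ k)) (e : σ ≃ σ) : Ideal (MvPolynomial σ k) :=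
  J.comap (renameEquiv k e).toRingEquiv.toRingHom

omit [Fintype σ] [DecidableEq σ] in
theorem mem_exps_permI (e : σ ≃ σ) (β : σ →₀ ℕ) : β ∈ exps (permI J e) ↔ β.mapDomain e ∈ exps J := by
  show rename e (monomial β (1 : k)) ∈ J ↔ _
  rw [rename_monomial]; rfl

omit [Fintype σ] [DecidableEq σ] in
theorem isMonomial_permI (hJ : IsMonomial J) (e : σ ≃ σ) : IsMonomial (permI J e) := fun p hp β hβ => by
  refine (mem_exps_permI e β).2 (hJ (rename e p) hp _ ?_)
  rw [MvPolynomial.mem_support_iff, coeff_rename_mapDomain _ e.injective]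
  exact MvPolynomial.mem_support_iff.1 hβ

theorem zv_mapDomain (e : σ ≃ σ) (β : σ →₀ ℕ) : zv (β.mapDomain e) = zv β ∘ e.symm := by
  funext i
  simp [zv, Finsupp.mapDomain_equiv_apply]

omit [DecidableEq σ] in
theorem good_perm (e : σ ≃ σ) (α γ : σ → ℤ) :
    Good (permI J e) α γ ↔ Good J (α ∘ e.symm) (γ ∘ e.symm) := by
  constructor
  · rintro ⟨β, δ, hβ, hδ, rfl, h⟩
    refine ⟨β.mapDomain e, δ.mapDomain e, (mem_exps_permI e β).1 hβ, fun hh => hδ ((mem_exps_permI e δ).2 hh),
      (zv_mapDomain e δ).symm, ?_⟩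
    rw [zv_mapDomain, zv_mapDomain, h]; rfl
  · rintro ⟨β, δ, hβ, hδ, h1, h2⟩
    have r : ∀ x : σ →₀ ℕ, (x.mapDomain e.symm).mapDomain e = x := fun x => by
      rw [← Finsupp.mapDomain_comp, Equiv.self_comp_symm, Finsupp.mapDomain_id]
    refine ⟨β.mapDomain e.symm, δ.mapDomain e.symm, (mem_exps_permI e _).2 (by rwa [r]),
      fun hh => hδ (r δ ▸ (mem_exps_permI e _).1 hh), ?_, ?_⟩
    · funext i
      have := congrFun h1 (e i)
      simpa [zv, Finsupp.mapDomain_equiv_apply] using this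
    · funext i
      have := congrFun h2 (e i)
      simpa [zv, Finsupp.mapDomain_equiv_apply] using this

theorem cfun_perm (e : σ ≃ σ) (α : σ → ℤ) {h : (σ → ℤ) → k} :
    h ∈ cfun (permI J e) α ↔ (fun γ => h (γ ∘ e)) ∈ cfun J (α ∘ e.symm) := by
  have r1 : ∀ γ : σ → ℤ, (γ ∘ e.symm) ∘ e = γ := fun γ => by funext i; simp
  have r2 : ∀ γ : σ → ℤ, (γ ∘ e) ∘ e.symm = γ := fun γ => by funext i; simp
  have hs : ∀ (β : σ →₀ ℕ) (i : σ),
      zv (β.mapDomain e) + α ∘ e.symm + Pi.single (e i) 1 = (zv β + α + Pi.single i 1) ∘ e.symm := fun β i => by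
    rw [zv_mapDomain]
    funext l
    simp only [Pi.add_apply, Function.comp_apply, Pi.single_apply, Equiv.symm_apply_eq]
  have hz : ∀ (β : σ →₀ ℕ), zv (β.mapDomain e) + α ∘ e.symm = (zv β + α) ∘ e.symm := fun β => by
    rw [zv_mapDomain]; rfl
  constructor
  · intro hh
    refine ⟨fun γ hg => hh.1 _ fun hg' => hg (by simpa [r2] using (good_perm e α _).1 hg'), fun β hβ i hg => ?_⟩
    obtain ⟨b, rfl⟩ : ∃ b, β = Finsupp.mapDomain e b := ⟨β.mapDomain e.symm, by
      rw [← Finsupp.mapDomain_comp, Equiv.self_comp_symm, Finsupp.mapDomain_id]⟩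
    obtain ⟨l, rfl⟩ := e.surjective i
    rw [hs] at hg ⊢
    rw [hz]
    simp only [r1]
    exact hh.2 b ((mem_exps_permI e b).2 hβ) l ((good_perm e α _).2 hg)
  · intro hh
    refine ⟨fun γ hg => ?_, fun β hβ i hg => ?_⟩
    · have := hh.1 (γ ∘ e.symm) fun hg' => hg ((good_perm e α γ).2 hg')
      simpa [r1] using this
    · have := hh.2 _ ((mem_exps_permI e β).1 hβ) (e i) (hs β i ▸ (good_perm e α _).1 hg)
      rw [hs, hz] at this
      simp only [r1] at this
      exact this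

theorem finrank_tPiece_perm (hJ : IsMonomial J) (e : σ ≃ σ) (α : σ → ℤ) :
    Module.finrank k (tPiece (permI J e) α) = Module.finrank k (tPiece J (α ∘ e.symm)) := by
  rw [(pieceEquiv (isMonomial_permI hJ e) α).finrank_eq, (pieceEquiv hJ (α ∘ e.symm)).finrank_eq]
  refine LinearEquiv.finrank_eq
    { toFun := fun h => ⟨fun γ => h.1 (γ ∘ e), (cfun_perm e α).1 h.2⟩
      invFun := fun h => ⟨fun γ => h.1 (γ ∘ e.symm), (cfun_perm e α).2 (by
        have : (fun γ : σ → ℤ => h.1 ((γ ∘ e) ∘ e.symm)) = h.1 := funext fun γ => congrArg h.1 (by funext i; simp)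
        rw [this]; exact h.2)⟩
      left_inv := fun h => Subtype.ext (funext fun γ => congrArg h.1 (by funext i; simp))
      right_inv := fun h => Subtype.ext (funext fun γ => congrArg h.1 (by funext i; simp))
      map_add' := fun a b => rfl
      map_smul' := fun r a => rfl }

/-- the quotient by the renamed ideal -/
noncomputable def permQuot (J : Ideal (MvPolynomial σ k)) (e : σ ≃ σ) :
    (MvPolynomial σ k ⧸ permI J e) ≃ₐ[k] MvPolynomial σ k ⧸ J :=
  Ideal.quotientEquivAlg (permI J e) J (renameEquiv k e)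
    (Ideal.map_comap_of_surjective (renameEquiv k e).toRingEquiv.toRingHom (renameEquiv k e).surjective J).symm

end perm

/-- the finitely many nonzero multidegrees satisfying `P` -/
noncomputable def sel {σ : Type*} [Fintype σ] {J : Ideal (MvPolynomial σ k)} (hJ : IsMonomial J)
    [Module.Finite k (MvPolynomial σ k ⧸ J)] (P : (σ → ℤ) → Prop) : Finset (σ → ℤ) :=
  @Finset.filter _ P (Classical.decPred P) (finite_ne_bot hJ).toFinset

theorem mem_sel {σ : Type*} [Fintype σ] {J : Ideal (MvPolynomial σ k)} (hJ : IsMonomial J)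
    [Module.Finite k (MvPolynomial σ k ⧸ J)] (P : (σ → ℤ) → Prop) (α : σ → ℤ) :
    α ∈ sel hJ P ↔ tPiece J α ≠ ⊥ ∧ P α := by
  rw [sel, @Finset.mem_filter _ P (Classical.decPred P), Set.Finite.mem_toFinset]
  rfl

variable (hI : IsMonomial I) [Module.Finite k (MvPolynomial (Fin 3) k ⧸ I)]

include hI

omit hI in
theorem finrank_iSup_filter {σ : Type*} [Fintype σ] {J : Ideal (MvPolynomial σ k)} (hJ : IsMonomial J)
    [Module.Finite k (MvPolynomial σ k ⧸ J)] (P : (σ → ℤ) → Prop) :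
    Module.finrank k ↥(⨆ α : {α : σ → ℤ // P α}, tPiece J α.1) =
      ∑ α ∈ sel hJ P, Module.finrank k (tPiece J α) :=
  finrank_iSup_tPiece hJ P _ (fun α hα => ((mem_sel hJ P α).1 hα).2) fun α hP hn => by
    by_contra hne
    exact hn ((mem_sel hJ P α).2 ⟨hne, hP⟩)

theorem tPiece_eq_bot_of_signs {α : Fin 3 → ℤ} (h : (∀ l, 0 ≤ α l) ∨ ∀ l, α l < 0) : tPiece I α = ⊥ := by
  refine tPiece_le_bot_of hI fun φ _ β δ hβ hδ he => ?_
  rcases h with h | h
  · refine absurd (exps_of_le hβ fun l => ?_) hδ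
    have := congrFun he l; have := h l
    simp only [zv, Pi.add_apply] at *
    omega
  · refine cq_eq_zero_of_descend hI φ (show (1 : Fin 3) ≠ 0 by decide) (h 0)
      (fun β _ => exists_add_single_mem hI _ 1) (fun β δ _ _ he hh => exps_of_le hh fun l => ?_) hβ hδ he
    have := congrFun he l
    have := h l
    simp only [zv, Pi.add_apply, Finsupp.add_apply, Finsupp.tsub_apply, Finsupp.single_apply] at *
    fin_cases l <;> simp at * <;> omega

theorem finrank_quot (B : Finset (ℕ × ℕ)) (hB : ∀ u, (stair hI).f u ≠ 0 → u ∈ B) :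
    Module.finrank k (MvPolynomial (Fin 3) k ⧸ I) = ∑ u ∈ B, (stair hI).f u := by
  have := finite_std hI
  haveI := Fintype.ofFinite {δ : Fin 3 →₀ ℕ // δ ∉ exps I}
  let L : (MvPolynomial (Fin 3) k ⧸ I) →ₗ[k] ({δ : Fin 3 →₀ ℕ // δ ∉ exps I} → k) :=
    LinearMap.pi fun δ => cq hI δ.1
  have hL : ∀ x δ, L x δ = cq hI δ.1 x := fun x δ => by simp only [L, LinearMap.pi_apply]
  have hinj : Function.Injective L := fun x y h => quot_ext hI fun δ hδ => by
    have := congrFun h ⟨δ, hδ⟩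
    simpa only [hL] using this
  have hsurj : Function.Surjective L := fun g =>
    ⟨∑ δ, g δ • Ideal.Quotient.mk I (monomial δ.1 (1 : k)), funext fun δ => by
      rw [hL, map_sum, Finset.sum_eq_single δ]
      · simp [cq_monomial hI _ _ δ.2]
      · intro b _ hb
        simp [cq_monomial hI _ _ δ.2, Subtype.coe_ne_coe.2 hb]
      · exact fun h => absurd (Finset.mem_univ δ) h⟩
  let e := LinearEquiv.ofBijective L ⟨hinj, hsurj⟩
  let g : (Σ u : B, Fin ((stair hI).f u.1)) → {δ : Fin 3 →₀ ℕ // δ ∉ exps I} := fun x =>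
    ⟨e3 x.1.1.1 x.1.1.2 x.2.1, fun h => absurd ((mem_iff hI x.1.1 x.2.1).1 h) (not_le.2 x.2.2)⟩
  have hg : Function.Bijective g := by
    constructor
    · rintro ⟨⟨⟨a, b⟩, hab⟩, c⟩ ⟨⟨⟨a', b'⟩, hab'⟩, c'⟩ h
      have h' := congrArg Subtype.val h
      have h0 := DFunLike.congr_fun h' 0
      have h1 := DFunLike.congr_fun h' 1
      have h2 := DFunLike.congr_fun h' 2
      simp [g, e3] at h0 h1 h2
      subst h0; subst h1
      simp [Fin.ext_iff, h2]
    · rintro ⟨δ, hδ⟩
      have hlt : δ 2 < (stair hI).f (δ 0, δ 1) := by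
        by_contra hn
        exact hδ (eq_e3 δ ▸ (mem_iff hI (δ 0, δ 1) (δ 2)).2 (not_lt.1 hn))
      exact ⟨⟨⟨(δ 0, δ 1), hB _ (by omega)⟩, ⟨δ 2, hlt⟩⟩, Subtype.ext (eq_e3 δ).symm⟩
  rw [e.finrank_eq, Module.finrank_fintype_fun_eq_card, ← Fintype.card_of_bijective hg, Fintype.card_sigma]
  simp only [Fintype.card_fin]
  rw [Finset.sum_coe_sort B fun u => (stair hI).f u]

theorem finrank_sigPiece_two :
    Module.finrank k ↥(sigPiece I ({2} : Set (Fin 3))) =
      Module.finrank k ↥(sigPiece I ({2}ᶜ : Set (Fin 3))) + Module.finrank k (MvPolynomial (Fin 3) k ⧸ I) := by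
  set A := (finite_ne_bot hI).toFinset with hA
  let φ : (Fin 3 → ℤ) → ℕ × ℕ := fun α => ((α 0).toNat, (α 1).toNat)
  let ψ : (Fin 3 → ℤ) → ℕ × ℕ := fun α => ((-α 0 - 1).toNat, (-α 1 - 1).toNat)
  let B : Finset (ℕ × ℕ) := (Finset.range (stair hI).N ×ˢ Finset.range (stair hI).N) ∪ A.image φ ∪ A.image ψ
  let F := fun α => Module.finrank k (tPiece I α)
  have hmA : ∀ {P : (Fin 3 → ℤ) → Prop} {α}, α ∈ sel hI P → α ∈ A := fun h =>
    (Set.Finite.mem_toFinset _).2 ((mem_sel hI _ _).1 h).1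
  have hsig : ∀ N : Set (Fin 3), ∀ Q : (Fin 3 → ℤ) → Prop,
      (∀ α, (∀ l, α l < 0 ↔ l ∈ N) → Q α) →
      (∀ α, Q α → ¬ (∀ l, α l < 0 ↔ l ∈ N) → (∀ l, 0 ≤ α l) ∨ (∀ l, α l < 0)) →
      Module.finrank k ↥(sigPiece I N) = ∑ α ∈ sel hI Q, F α := fun N Q h1 h2 => by
    rw [sigPiece, finrank_iSup_filter hI]
    refine Finset.sum_subset (fun α hα => ?_) fun α hα hn => ?_
    · exact (mem_sel hI _ _).2 ⟨((mem_sel hI _ _).1 hα).1, h1 α ((mem_sel hI _ _).1 hα).2⟩
    · exact absurd (tPiece_eq_bot_of_signs hI (h2 α ((mem_sel hI _ _).1 hα).2 fun h =>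
        hn ((mem_sel hI _ _).2 ⟨((mem_sel hI _ _).1 hα).1, h⟩))) ((mem_sel hI _ _).1 hα).1
  rw [hsig {2} (fun α => 0 ≤ α 0 ∧ 0 ≤ α 1)
      (fun α h => ⟨not_lt.1 fun hh => absurd ((h 0).1 hh) (by simp), not_lt.1 fun hh => absurd ((h 1).1 hh) (by simp)⟩)
      (fun α ⟨h0, h1⟩ hn => Or.inl fun l => by
        by_cases h2 : α 2 < 0
        · exact absurd (fun l => by fin_cases l <;> simp <;> omega) hn
        · fin_cases l <;> simp <;> omega),
    hsig {2}ᶜ (fun α => α 0 < 0 ∧ α 1 < 0) (fun α h => ⟨(h 0).2 (by simp), (h 1).2 (by simp)⟩)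
      (fun α ⟨h0, h1⟩ hn => Or.inr fun l => by
        by_cases h2 : 0 ≤ α 2
        · exact absurd (fun l => by fin_cases l <;> simp <;> omega) hn
        · fin_cases l <;> simp <;> omega),
    ← Finset.sum_fiberwise_of_maps_to (g := φ) (t := B) (fun α hα => Finset.mem_union_left _
      (Finset.mem_union_right _ (Finset.mem_image_of_mem φ (hmA hα)))) F,
    ← Finset.sum_fiberwise_of_maps_to (g := ψ) (t := B) (fun α hα => Finset.mem_union_right _
      (Finset.mem_image_of_mem ψ (hmA hα))) F,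
    finrank_quot hI B (fun u hu => Finset.mem_union_left _ (Finset.mem_union_left _ (by
      simpa using (stair hI).supp u hu))), ← Finset.sum_add_distrib]
  refine Finset.sum_congr rfl fun u _ => ?_
  have hd := finrank_fix_xy (k := k) hI u.1 u.2
  rw [finrank_iSup_filter hI, finrank_iSup_filter hI, show stairZ I u.1 u.2 = (stair hI).f u from rfl] at hd
  refine Eq.trans ?_ (hd.trans ?_)
  · refine Finset.sum_congr (Finset.ext fun α => ?_) fun _ _ => rfl
    simp only [Finset.mem_filter, mem_sel, φ, Prod.ext_iff]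
    constructor
    · rintro ⟨⟨hne, h0, h1⟩, e0, e1⟩; exact ⟨hne, by omega, by omega⟩
    · rintro ⟨hne, h0, h1⟩; exact ⟨⟨hne, by omega, by omega⟩, by omega, by omega⟩
  · rw [add_comm]
    refine congrArg (· + (stair hI).f u) (Finset.sum_congr (Finset.ext fun α => ?_) fun _ _ => rfl)
    simp only [Finset.mem_filter, mem_sel, ψ, Prod.ext_iff]
    constructor
    · rintro ⟨hne, h0, h1⟩; exact ⟨⟨hne, by omega, by omega⟩, by omega, by omega⟩
    · rintro ⟨⟨hne, h0, h1⟩, e0, e1⟩; exact ⟨hne, by omega, by omega⟩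

theorem finrank_sigPiece_perm (e : Fin 3 ≃ Fin 3) [Module.Finite k (MvPolynomial (Fin 3) k ⧸ permI I e)]
    (N M : Set (Fin 3)) (hNM : ∀ l, l ∈ N ↔ e l ∈ M) :
    Module.finrank k ↥(sigPiece (permI I e) N) = Module.finrank k ↥(sigPiece I M) := by
  have hp := isMonomial_permI hI e
  rw [sigPiece, sigPiece, finrank_iSup_filter hI, finrank_iSup_filter hp]
  refine Finset.sum_bij' (fun α _ => α ∘ e.symm) (fun α _ => α ∘ e) ?_ ?_
    (fun α _ => by funext l; simp) (fun α _ => by funext l; simp) (fun α _ => finrank_tPiece_perm hI e α)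
  · intro α hα
    obtain ⟨hne, hs⟩ := (mem_sel hp _ _).1 hα
    refine (mem_sel hI _ _).2 ⟨fun h0 => hne ?_, fun l => ?_⟩
    · have := finite_tgt (I := permI I e)
      exact Submodule.finrank_eq_zero.1 (by rw [finrank_tPiece_perm hI, h0, finrank_bot])
    · have := hs (e.symm l)
      rw [hNM, Equiv.apply_symm_apply] at this
      exact this
  · intro α hα
    obtain ⟨hne, hs⟩ := (mem_sel hI _ _).1 hα
    refine (mem_sel hp _ _).2 ⟨fun h0 => hne ?_, fun l => ?_⟩
    · have := finite_tgt (I := I)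
      refine Submodule.finrank_eq_zero.1 ?_
      have hh := finrank_tPiece_perm hI e (α ∘ e)
      rw [h0, finrank_bot, Function.comp_assoc, Equiv.self_comp_symm, Function.comp_id] at hh
      exact hh.symm
    · rw [hNM]; exact hs (e l)

theorem finrank_sigPiece_singleton (i : Fin 3) :
    Module.finrank k ↥(sigPiece I ({i} : Set (Fin 3))) =
      Module.finrank k ↥(sigPiece I ({i}ᶜ : Set (Fin 3))) + Module.finrank k (MvPolynomial (Fin 3) k ⧸ I) := by
  let e : Fin 3 ≃ Fin 3 := Equiv.swap 2 i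
  have he2 : e 2 = i := Equiv.swap_apply_left _ _
  haveI : Module.Finite k (MvPolynomial (Fin 3) k ⧸ permI I e) := Module.Finite.equiv (permQuot I e).symm.toLinearEquiv
  have hp := isMonomial_permI hI e
  have key : ∀ N M : Set (Fin 3), (∀ l, l ∈ N ↔ e l ∈ M) →
      Module.finrank k ↥(sigPiece (permI I e) N) = Module.finrank k ↥(sigPiece I M) := finrank_sigPiece_perm hI e
  have h := finrank_sigPiece_two hp
  rw [key {2} {i} (fun l => by simp [← he2]), key {2}ᶜ {i}ᶜ (fun l => by simp [← he2]),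
    (permQuot I e).toLinearEquiv.finrank_eq] at h
  exact h

end Groth.Agent.H25Hilb
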