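import Groth.Agent.H25Hilb.Colength
import Groth.Agent.H25Hilb.Duality
import Groth.Agent.H25Hilb.Pow

/-! # Slices of strongly stable ideals -/

open MvPolynomial W4c1hilbpn
open scoped Classical

namespace Groth.Agent.H25Hilb

variable {k : Type*} [Field k] {I : Ideal (MvPolynomial (Fin 3) k)}

theorem mem_slice (hI : IsMonomial I) (i : ℕ) (f : MvPolynomial (Fin 2) k) :
    f ∈ sliceX I i ↔ ∀ β ∈ f.support, Finsupp.single 0 i + β.mapDomain Fin.succ ∈ exps I := by
  have e : f ∈ sliceX I i ↔ rename Fin.succ f * X 0 ^ i ∈ I := Submodule.mem_colon_singleton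
  rw [e]
  constructor
  · intro h β hβ
    refine hI _ h _ (MvPolynomial.mem_support_iff.2 ?_)
    rw [show (X 0 : MvPolynomial (Fin 3) k) ^ i = monomial (Finsupp.single 0 i) 1 from X_pow_eq_monomial,
      add_comm (Finsupp.single 0 i), coeff_mul_monomial, mul_one, coeff_rename_mapDomain _ (Fin.succ_injective 2)]
    exact MvPolynomial.mem_support_iff.1 hβ
  · intro h
    rw [f.as_sum, map_sum, Finset.sum_mul]
    refine Submodule.sum_mem _ fun β hβ => ?_
    rw [rename_monomial, X_pow_eq_monomial, monomial_mul, mul_one, add_comm (β.mapDomain Fin.succ)]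
    have h2 := I.mul_mem_left (C (coeff β f)) (h β hβ)
    rwa [C_mul_monomial, mul_one] at h2

theorem exps_slice (hI : IsMonomial I) (i : ℕ) (β : Fin 2 →₀ ℕ) :
    β ∈ exps (sliceX I i) ↔ e3 i (β 0) (β 1) ∈ exps I := by
  refine (mem_slice hI i (monomial β (1 : k))).trans ?_
  rw [support_monomial, if_neg one_ne_zero]
  have : Finsupp.single (0 : Fin 3) i + β.mapDomain Fin.succ = e3 i (β 0) (β 1) := by
    refine Finsupp.ext fun l => ?_
    refine Fin.cases ?_ (fun j => ?_) l
    · simp [e3, Finsupp.mapDomain_notin_range _ _ (show (0 : Fin 3) ∉ Set.range Fin.succ by simp)]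
    · rw [Finsupp.add_apply, Finsupp.single_eq_of_ne (Fin.succ_ne_zero j), zero_add,
        Finsupp.mapDomain_apply (Fin.succ_injective 2)]
      fin_cases j <;> simp [e3]
  simp [this]

theorem isMonomial_slice (hI : IsMonomial I) (i : ℕ) : IsMonomial (sliceX I i) := fun f hf β hβ => by
  refine (mem_slice hI i (monomial β (1 : k))).2 fun γ hγ => ?_
  rw [support_monomial, if_neg one_ne_zero, Finset.mem_singleton] at hγ
  exact hγ ▸ (mem_slice hI i f).1 hf β hβ

variable (hI : IsMonomial I) [Module.Finite k (MvPolynomial (Fin 3) k ⧸ I)]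

include hI

theorem finrank_slice (i : ℕ) :
    Module.finrank k (MvPolynomial (Fin 2) k ⧸ sliceX I i) = ∑ b ∈ Finset.range (stair hI).N, (stair hI).f (i, b) := by
  let g : (Σ b : Finset.range (stair hI).N, Fin ((stair hI).f (i, b.1))) → {δ : Fin 2 →₀ ℕ // δ ∉ exps (sliceX I i)} :=
    fun x => ⟨Finsupp.equivFunOnFinite.symm ![x.1.1, x.2.1], fun h => by
      rw [exps_slice hI] at h
      have := (mem_iff hI (i, x.1.1) x.2.1).1 (by simpa using h)
      exact absurd this (not_le.2 x.2.2)⟩
  have hg : Function.Bijective g := by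
    constructor
    · rintro ⟨⟨b, hb⟩, c⟩ ⟨⟨b', hb'⟩, c'⟩ h
      have h' := congrArg Subtype.val h
      have h0 := DFunLike.congr_fun h' 0
      have h1 := DFunLike.congr_fun h' 1
      simp [g] at h0 h1
      subst h0
      simp [Fin.ext_iff, h1]
    · rintro ⟨δ, hδ⟩
      have hlt : δ 1 < (stair hI).f (i, δ 0) := by
        by_contra hn
        exact hδ ((exps_slice hI i δ).2 ((mem_iff hI (i, δ 0) (δ 1)).2 (not_lt.1 hn)))
      refine ⟨⟨⟨δ 0, Finset.mem_range.2 ((stair hI).supp (i, δ 0) (by omega)).2⟩, ⟨δ 1, hlt⟩⟩, Subtype.ext ?_⟩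
      refine Finsupp.ext fun l => ?_
      fin_cases l <;> simp [g]
  haveI : Finite {δ : Fin 2 →₀ ℕ // δ ∉ exps (sliceX I i)} := Finite.of_surjective g hg.2
  rw [finrank_quot_eq_card (isMonomial_slice hI i), ← Nat.card_congr (Equiv.ofBijective g hg),
    Nat.card_eq_fintype_card, Fintype.card_sigma]
  simp only [Fintype.card_fin]
  exact Finset.sum_coe_sort (Finset.range (stair hI).N) fun b => (stair hI).f (i, b)

variable (hss : IsStronglyStable I)
include hss

theorem stair_diag (i b : ℕ) : (stair hI).f (i + 1, b) ≤ (stair hI).f (i, b + 1) := by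
  refine (mem_iff hI (i + 1, b) _).1 ?_
  have h := hss.2 _ ((mem_iff hI (i, b + 1) _).2 le_rfl) 0 1 (by decide) (by simp [e3])
  convert h using 1
  ext l
  fin_cases l <;> simp [e3, Matrix.vecHead, Matrix.vecTail]

theorem stair_strict (i b : ℕ) (h0 : 0 < (stair hI).f (i, b + 1)) : (stair hI).f (i, b + 1) + 1 ≤ (stair hI).f (i, b) := by
  by_contra hlt
  have hp : 0 < (stair hI).f (i, b) := lt_of_lt_of_le h0 ((stair hI).anti ⟨le_rfl, Nat.le_succ b⟩)
  have hm : e3 i b ((stair hI).f (i, b)) ∈ exps I := (mem_iff hI (i, b) _).2 le_rfl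
  have h := hss.2 _ hm 1 2 (by decide) (by simpa [e3] using hp)
  have h' : e3 i (b + 1) ((stair hI).f (i, b) - 1) ∈ exps I := by
    convert h using 1
    ext l
    fin_cases l <;> simp [e3, Matrix.vecHead, Matrix.vecTail]
  have := (mem_iff hI (i, b + 1) _).1 h'
  omega

theorem stair_le_sub (i b : ℕ) : (stair hI).f (i, b) ≤ (stair hI).f (i, 0) - b := by
  induction b with
  | zero => simp
  | succ b ih =>
    rcases Nat.eq_zero_or_pos ((stair hI).f (i, b + 1)) with h | h
    · omega
    · have := stair_strict hI hss i b h; omega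

end Groth.Agent.H25Hilb
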