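import Groth.Agent.H25Hilb.Basic

/-! # Tangent vectors sending a minimal generator to a socle monomial -/

open MvPolynomial W4c1hilbpn
open scoped Classical

namespace Groth.Agent.H25Hilb

variable {σ : Type*} {k : Type*} [Field k] {I : Ideal (MvPolynomial σ k)} [Finite σ] [DecidableEq σ]

/-- A minimal generator `x^β` and a socle monomial `x^δ` give a nonzero tangent vector of multidegree `δ - β`. -/
theorem tPiece_ne_bot_of_socle (hI : IsMonomial I) {β δ : σ →₀ ℕ} (hβ : β ∈ exps I) (hδ : δ ∉ exps I)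
    (hmin : ∀ l, ∀ b : σ →₀ ℕ, b + Finsupp.single l 1 = β → b ∉ exps I)
    (hsucc : ∀ l, δ + Finsupp.single l 1 ∈ exps I) : tPiece I (zv δ - zv β) ≠ ⊥ := by
  intro hbot
  let α : σ → ℤ := zv δ - zv β
  have hc0 : (fun γ : σ → ℤ => if γ = zv δ then (1 : k) else 0) ∈ cfun I α := by
    refine ⟨fun γ hg => if_neg fun e => hg ⟨β, δ, hβ, hδ, e, by simp only [α]; abel⟩, fun b hb l hg => ?_⟩
    have h1 : zv b + α + Pi.single l 1 ≠ zv δ := fun e => hmin l b (zv_inj (by
      rw [zv_add_single]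
      simp only [α] at e
      funext m
      have := congrFun e m
      simp only [Pi.add_apply, Pi.sub_apply] at this ⊢
      omega)) hb
    have h2 : zv b + α ≠ zv δ := fun e => by
      obtain ⟨b', d', -, hd', hd, -⟩ := hg
      rw [e, ← zv_add_single] at hd
      exact hd' (zv_inj hd ▸ hsucc l)
    simp only [if_neg h1, if_neg h2]
  let φ := (pieceEquiv hI α).symm ⟨_, hc0⟩
  have hm : φ.1 = 0 := (Submodule.mem_bot k).1 ((le_of_eq hbot) φ.2)
  have h0 : φ = 0 := Subtype.ext hm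
  have := congrFun (congrArg Subtype.val (((pieceEquiv hI α).apply_symm_apply ⟨_, hc0⟩).symm.trans
    ((congrArg _ h0).trans (map_zero _)))) (zv δ)
  simp at this

theorem sigPiece_ne_bot_of_socle (hI : IsMonomial I) {β δ : σ →₀ ℕ} (hβ : β ∈ exps I) (hδ : δ ∉ exps I)
    (hmin : ∀ l, ∀ b : σ →₀ ℕ, b + Finsupp.single l 1 = β → b ∉ exps I)
    (hsucc : ∀ l, δ + Finsupp.single l 1 ∈ exps I) (N : Set σ) (hN : ∀ l, δ l < β l ↔ l ∈ N) :
    sigPiece I N ≠ ⊥ := fun hbot => by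
  refine tPiece_ne_bot_of_socle hI hβ hδ hmin hsucc (le_bot_iff.1 (hbot ▸ ?_))
  exact le_iSup (fun α : {α : σ → ℤ // ∀ i, α i < 0 ↔ i ∈ N} => tPiece I α.1)
    ⟨zv δ - zv β, fun l => by rw [← hN l]; simp [zv]⟩

end Groth.Agent.H25Hilb
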